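import Cfsg.Agent.Helper5.SL2Sylow

set_option autoImplicit false

/-!
Helper library (helper44): elements of `PSL₂(F)`: the images `X t`, `Y s` of the upper and lower
unitriangular matrices, the braid relation `X t * Y s * X t = Y s * X t * Y s ↔ t * s = -1` and the
torus elements obtained from it.
-/

namespace Cfsg.Agent.Helper44

open Matrix Cfsg.Agent.Helper5

universe u

section PSL2

variable {F : Type u} [Field F]

/-- `SL₂(F)` -/
abbrev SL2 (F : Type u) [Field F] := Matrix.SpecialLinearGroup (Fin 2) F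

/-- `PSL₂(F)` -/
abbrev PSL2 (F : Type u) [Field F] := Matrix.ProjectiveSpecialLinearGroup (Fin 2) F

/-- the projection `SL₂(F) → PSL₂(F)` -/
def pr : SL2 F →* PSL2 F := QuotientGroup.mk' (Subgroup.center (SL2 F))

theorem pr_surjective : Function.Surjective (pr (F := F)) := QuotientGroup.mk'_surjective _

theorem mat2_eq_iff (a b c d a' b' c' d' : F) :
    (!![a, b; c, d] : Matrix (Fin 2) (Fin 2) F) = !![a', b'; c', d']
      ↔ a = a' ∧ b = b' ∧ c = c' ∧ d = d' := by
  constructor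
  · intro h
    refine ⟨?_, ?_, ?_, ?_⟩
    · simpa using congrFun (congrFun h 0) 0
    · simpa using congrFun (congrFun h 0) 1
    · simpa using congrFun (congrFun h 1) 0
    · simpa using congrFun (congrFun h 1) 1
  · rintro ⟨rfl, rfl, rfl, rfl⟩
    rfl

theorem smul_mat2 (r a b c d : F) :
    r • (!![a, b; c, d] : Matrix (Fin 2) (Fin 2) F) = !![r * a, r * b; r * c, r * d] := by
  ext i j
  fin_cases i <;> fin_cases j <;> simp

theorem pr_eq_iff (a b : SL2 F) :
    pr a = pr b ↔ ∃ r : F, r * r = 1 ∧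
      (b : Matrix (Fin 2) (Fin 2) F) = r • (a : Matrix (Fin 2) (Fin 2) F) := by
  unfold pr
  rw [QuotientGroup.mk'_apply, QuotientGroup.mk'_apply, QuotientGroup.eq,
    Matrix.SpecialLinearGroup.mem_center_iff]
  constructor
  · rintro ⟨r, hr, h⟩
    refine ⟨r, ?_, ?_⟩
    · rw [Fintype.card_fin, sq] at hr
      exact hr
    · have h2 : (b : Matrix (Fin 2) (Fin 2) F)
          = (a : Matrix (Fin 2) (Fin 2) F) * ((a⁻¹ * b : SL2 F) : Matrix (Fin 2) (Fin 2) F) := by
        rw [← Matrix.SpecialLinearGroup.coe_mul, mul_inv_cancel_left]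
      rw [h2, ← h]
      show (a : Matrix (Fin 2) (Fin 2) F) * Matrix.diagonal (fun _ => r) = _
      rw [← Matrix.smul_one_eq_diagonal, Matrix.mul_smul, mul_one]
  · rintro ⟨r, hr, h⟩
    refine ⟨r, ?_, ?_⟩
    · rw [Fintype.card_fin, sq]
      exact hr
    · have h2 : ((a⁻¹ * b : SL2 F) : Matrix (Fin 2) (Fin 2) F)
          = ((a⁻¹ : SL2 F) : Matrix (Fin 2) (Fin 2) F) * (b : Matrix (Fin 2) (Fin 2) F) :=
        Matrix.SpecialLinearGroup.coe_mul _ _
      rw [h2, h, Matrix.mul_smul, ← Matrix.SpecialLinearGroup.coe_mul, inv_mul_cancel]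
      show Matrix.diagonal (fun _ => r) = r • (1 : Matrix (Fin 2) (Fin 2) F)
      exact (Matrix.smul_one_eq_diagonal r).symm

/-- the image of the upper unitriangular matrix -/
def X (t : F) : PSL2 F := pr (uSL t)

/-- the image of the lower unitriangular matrix -/
def Y (t : F) : PSL2 F := pr (lSL t)

theorem lSL_mul (a b : F) : lSL a * lSL b = lSL (a + b) := by
  apply Subtype.ext
  simp [lSL_coe, Matrix.mul_fin_two, add_comm]

theorem lSL_zero : lSL (0 : F) = 1 := by
  apply Subtype.ext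
  simp [lSL_coe, Matrix.one_fin_two]

theorem X_add (a b : F) : X (a + b) = X a * X b := by
  unfold X
  rw [← map_mul, uSL_mul]

theorem Y_add (a b : F) : Y (a + b) = Y a * Y b := by
  unfold Y
  rw [← map_mul, lSL_mul]

theorem X_zero : X (0 : F) = 1 := by
  unfold X
  rw [uSL_zero, map_one]

theorem Y_zero : Y (0 : F) = 1 := by
  unfold Y
  rw [lSL_zero, map_one]

theorem X_neg (a : F) : X (-a) = (X a)⁻¹ := by
  rw [eq_inv_iff_mul_eq_one, ← X_add, neg_add_cancel, X_zero]

theorem Y_neg (a : F) : Y (-a) = (Y a)⁻¹ := by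
  rw [eq_inv_iff_mul_eq_one, ← Y_add, neg_add_cancel, Y_zero]

theorem X_injective : Function.Injective (X : F → PSL2 F) := by
  intro a b h
  unfold X at h
  rw [pr_eq_iff] at h
  obtain ⟨r, -, h⟩ := h
  rw [uSL_coe, uSL_coe, smul_mat2, mat2_eq_iff] at h
  obtain ⟨h1, h2, -, -⟩ := h
  rw [mul_one] at h1
  rw [← h1, one_mul] at h2
  exact h2.symm

theorem Y_injective : Function.Injective (Y : F → PSL2 F) := by
  intro a b h
  unfold Y at h
  rw [pr_eq_iff] at h
  obtain ⟨r, -, h⟩ := h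
  rw [lSL_coe, lSL_coe, smul_mat2, mat2_eq_iff] at h
  obtain ⟨h1, -, h2, -⟩ := h
  rw [mul_one] at h1
  rw [← h1, one_mul] at h2
  exact h2.symm

/-- no non-trivial lower unitriangular element is upper unitriangular -/
theorem Y_ne_X (s t : F) (hs : s ≠ 0) : Y s ≠ X t := by
  intro h
  unfold X Y at h
  rw [pr_eq_iff] at h
  obtain ⟨r, -, h⟩ := h
  rw [lSL_coe, uSL_coe, smul_mat2, mat2_eq_iff] at h
  obtain ⟨h1, -, h2, -⟩ := h
  rw [mul_one] at h1
  rw [← h1, one_mul] at h2
  exact hs h2.symm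

theorem braid_mat_u (t s : F) :
    ((uSL t * lSL s * uSL t : SL2 F) : Matrix (Fin 2) (Fin 2) F)
      = !![1 + t * s, t * (2 + t * s); s, 1 + t * s] := by
  simp only [Matrix.SpecialLinearGroup.coe_mul, uSL_coe, lSL_coe, Matrix.mul_fin_two]
  rw [mat2_eq_iff]
  refine ⟨by ring, by ring, by ring, by ring⟩

theorem braid_mat_l (t s : F) :
    ((lSL s * uSL t * lSL s : SL2 F) : Matrix (Fin 2) (Fin 2) F)
      = !![1 + t * s, t; s * (2 + t * s), 1 + t * s] := by
  simp only [Matrix.SpecialLinearGroup.coe_mul, uSL_coe, lSL_coe, Matrix.mul_fin_two]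
  rw [mat2_eq_iff]
  refine ⟨by ring, by ring, by ring, by ring⟩

/-- the braid relation characterises the pairs with `t * s = -1` -/
theorem braid_iff (t s : F) :
    X t * Y s * X t = Y s * X t * Y s ↔ (t * s = -1 ∨ (t = 0 ∧ s = 0)) := by
  unfold X Y
  rw [← map_mul, ← map_mul, ← map_mul, ← map_mul, pr_eq_iff]
  constructor
  · rintro ⟨r, -, h⟩
    rw [braid_mat_u, braid_mat_l, smul_mat2, mat2_eq_iff] at h
    obtain ⟨h1, h2, h3, -⟩ := h
    by_cases hts : 1 + t * s = 0
    · left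
      linear_combination hts
    · right
      have hr : r = 1 := by
        have h4 : (1 - r) * (1 + t * s) = 0 := by linear_combination h1
        rcases mul_eq_zero.mp h4 with h5 | h5
        · linear_combination -h5
        · exact absurd h5 hts
      rw [hr, one_mul] at h2 h3
      constructor
      · have h4 : t * (1 + t * s) = 0 := by linear_combination -h2
        rcases mul_eq_zero.mp h4 with h5 | h5
        · exact h5
        · exact absurd h5 hts
      · have h4 : s * (1 + t * s) = 0 := by linear_combination h3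
        rcases mul_eq_zero.mp h4 with h5 | h5
        · exact h5
        · exact absurd h5 hts
  · rintro (h | ⟨rfl, rfl⟩)
    · refine ⟨1, one_mul 1, ?_⟩
      rw [braid_mat_u, braid_mat_l, smul_mat2, mat2_eq_iff]
      refine ⟨by ring, ?_, ?_, by ring⟩
      · linear_combination (-t) * h
      · linear_combination s * h
    · refine ⟨1, one_mul 1, ?_⟩
      rw [braid_mat_u, braid_mat_l, smul_mat2, mat2_eq_iff]
      refine ⟨by ring, by ring, by ring, by ring⟩

/-- the diagonal element `diag(c, c⁻¹)` -/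
def hSL (c : F) (hc : c ≠ 0) : SL2 F :=
  ⟨!![c, 0; 0, c⁻¹], by simp [Matrix.det_fin_two, hc]⟩

theorem hSL_coe (c : F) (hc : c ≠ 0) :
    ((hSL c hc : SL2 F) : Matrix (Fin 2) (Fin 2) F) = !![c, 0; 0, c⁻¹] := rfl

/-- the Weyl element `u(t) l(-t⁻¹) u(t)` -/
def wSL (t : F) : SL2 F := uSL t * lSL (-t⁻¹) * uSL t

theorem wSL_coe (t : F) (ht : t ≠ 0) :
    ((wSL t : SL2 F) : Matrix (Fin 2) (Fin 2) F) = !![0, t; -t⁻¹, 0] := by
  unfold wSL
  rw [braid_mat_u, mat2_eq_iff]
  have h1 : t * t⁻¹ = 1 := mul_inv_cancel₀ ht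
  refine ⟨?_, ?_, rfl, ?_⟩
  · linear_combination -h1
  · linear_combination (-t) * h1
  · linear_combination -h1

theorem wSL_eq (a b : F) (ha : a ≠ 0) (hb : b ≠ 0) :
    wSL a = hSL (a / b) (div_ne_zero ha hb) * wSL b := by
  apply Subtype.ext
  rw [Matrix.SpecialLinearGroup.coe_mul, wSL_coe a ha, wSL_coe b hb, hSL_coe, Matrix.mul_fin_two,
    mat2_eq_iff]
  refine ⟨by ring, ?_, ?_, by ring⟩
  · field_simp
    ring
  · field_simp
    ring

theorem hSL_mul_uSL (c : F) (hc : c ≠ 0) (t : F) :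
    hSL c hc * uSL t = uSL (c ^ 2 * t) * hSL c hc := by
  apply Subtype.ext
  rw [Matrix.SpecialLinearGroup.coe_mul, Matrix.SpecialLinearGroup.coe_mul, hSL_coe, uSL_coe,
    uSL_coe, Matrix.mul_fin_two, Matrix.mul_fin_two, mat2_eq_iff]
  refine ⟨by ring, ?_, by ring, by ring⟩
  field_simp
  ring

/-- the image of the Weyl element -/
def Wp (t : F) : PSL2 F := X t * Y (-t⁻¹) * X t

theorem Wp_eq (t : F) : Wp t = pr (wSL t) := by
  unfold Wp X Y wSL
  rw [map_mul, map_mul]

/-- conjugation by `Wp a * (Wp b)⁻¹` scales the upper unitriangular elements by `(a / b) ^ 2` -/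
theorem conj_Wp (a b : F) (ha : a ≠ 0) (hb : b ≠ 0) (t : F) :
    (Wp a * (Wp b)⁻¹) * X t * (Wp a * (Wp b)⁻¹)⁻¹ = X ((a / b) ^ 2 * t) := by
  have h1 : Wp a * (Wp b)⁻¹ = pr (hSL (a / b) (div_ne_zero ha hb)) := by
    rw [Wp_eq, Wp_eq, wSL_eq a b ha hb, map_mul, mul_inv_cancel_right]
  rw [h1, mul_inv_eq_iff_eq_mul]
  unfold X
  rw [← map_mul, ← map_mul, hSL_mul_uSL]

/-- two homomorphisms from `PSL₂(F)` agreeing on the unitriangular elements are equal -/
theorem hom_ext_XY {M : Type*} [Group M] (f g : PSL2 F →* M) (hX : ∀ t, f (X t) = g (X t))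
    (hY : ∀ t, f (Y t) = g (Y t)) : f = g := by
  have h1 : (f.comp pr).eqLocus (g.comp pr) = ⊤ := by
    apply eq_top_of_uSL_lSL_mem
    · intro b
      exact hX b
    · intro b
      exact hY b
  apply MonoidHom.ext
  intro x
  obtain ⟨s, rfl⟩ := pr_surjective x
  have h2 : s ∈ (f.comp pr).eqLocus (g.comp pr) := by rw [h1]; trivial
  exact h2

end PSL2

end Cfsg.Agent.Helper44
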