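import Mathlib

set_option autoImplicit false

/-!
Helper library (helper44): quadratic extensions of finite fields and restriction of scalars
for matrix groups.
-/

namespace Cfsg.Agent.Helper44

open Polynomial

/-- A finite field with `q` elements embeds in a finite field with `q ^ d` elements. -/
theorem exists_ringHom_of_card_pow {F K : Type*} [Field F] [Fintype F] [Field K] [Fintype K]
    {q d : ℕ} (hF : Fintype.card F = q) (hK : Fintype.card K = q ^ d) : Nonempty (F →+* K) := by
  classical
  set p := ringChar F with hp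
  have : CharP F p := ringChar.charP F
  obtain ⟨n, hpp, hn⟩ := FiniteField.card F p
  have : Fact p.Prime := ⟨hpp⟩
  obtain ⟨n', hpp', hn'⟩ := FiniteField.card K (ringChar K)
  have hpK : ringChar K = p := by
    have h1 : ringChar K ∣ p ^ ((n : ℕ) * d) := by
      rw [pow_mul, ← hn, hF, ← hK, hn']
      exact dvd_pow_self _ n'.ne_zero
    exact (Nat.prime_dvd_prime_iff_eq hpp' hpp).mp (hpp'.dvd_of_dvd_pow h1)
  have : CharP K p := by rw [← hpK]; exact ringChar.charP K
  let _ := ZMod.algebra F p
  let _ := ZMod.algebra K p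
  have h1 : Module.finrank (ZMod p) F = n := by
    have := FiniteField.pow_finrank_eq_card p F
    rw [hn] at this
    exact Nat.pow_right_injective hpp.two_le this
  have h2 : Module.finrank (ZMod p) K = n * d := by
    have := FiniteField.pow_finrank_eq_card p K
    rw [hK, ← hF, hn, ← pow_mul] at this
    exact Nat.pow_right_injective hpp.two_le this
  obtain ⟨f⟩ := FiniteField.nonempty_algHom_of_finrank_dvd (F := ZMod p) (K := F) (L := K)
    (by rw [h1, h2]; exact dvd_mul_right _ _)
  exact ⟨f.toRingHom⟩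

/-- The `q`-power map of a finite field with `q ^ d` elements, `q` the order of a finite
field, is a ring homomorphism. -/
theorem exists_frob {F K : Type*} [Field F] [Fintype F] [Field K] [Fintype K]
    {q d : ℕ} (hF : Fintype.card F = q) (hK : Fintype.card K = q ^ d) (hd : d ≠ 0) :
    ∃ τ : K →+* K, ∀ x, τ x = x ^ q := by
  classical
  set p := ringChar F with hp
  have : CharP F p := ringChar.charP F
  obtain ⟨n, hpp, hn⟩ := FiniteField.card F p
  have : Fact p.Prime := ⟨hpp⟩
  obtain ⟨n', hpp', hn'⟩ := FiniteField.card K (ringChar K)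
  have hpK : ringChar K = p := by
    have h1 : ringChar K ∣ p ^ ((n : ℕ) * d) := by
      rw [pow_mul, ← hn, hF, ← hK, hn']
      exact dvd_pow_self _ n'.ne_zero
    exact (Nat.prime_dvd_prime_iff_eq hpp' hpp).mp (hpp'.dvd_of_dvd_pow h1)
  have : CharP K p := by rw [← hpK]; exact ringChar.charP K
  refine ⟨iterateFrobenius K p n, fun x => ?_⟩
  rw [iterateFrobenius_def, ← hn, hF]

section Quadratic

variable {F K : Type*} [Field F] [Fintype F] [Field K] [Fintype K] [Algebra F K] {q : ℕ}

theorem two_le_card (hF : Fintype.card F = q) : 2 ≤ q := by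
  rw [← hF]; exact Fintype.one_lt_card

theorem algebraMap_pow_card (hF : Fintype.card F = q) (a : F) :
    (algebraMap F K a) ^ q = algebraMap F K a := by
  rw [← map_pow, ← hF, FiniteField.pow_card]

theorem pow_card_sq (hK : Fintype.card K = q ^ 2) (x : K) : (x ^ q) ^ q = x := by
  rw [← pow_mul, ← pow_two, ← hK, FiniteField.pow_card]

/-- elements fixed by the `q`-power map lie in the subfield -/
theorem mem_range_of_pow_eq (hF : Fintype.card F = q) (x : K) (hx : x ^ q = x) :
    ∃ a : F, algebraMap F K a = x := by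
  classical
  have hq := two_le_card hF
  set P : K[X] := X ^ q - X with hP
  have hdeg : P.natDegree = q := by
    rw [hP]
    exact FiniteField.X_pow_card_sub_X_natDegree_eq K (by omega)
  have hP0 : P ≠ 0 := by
    intro h
    rw [h, natDegree_zero] at hdeg
    omega
  set S := P.roots.toFinset with hS
  have hScard : S.card ≤ q := by
    calc S.card ≤ Multiset.card P.roots := Multiset.toFinset_card_le _
      _ ≤ P.natDegree := card_roots' P
      _ = q := hdeg
  set T : Finset K := Finset.univ.image (algebraMap F K) with hT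
  have hTcard : T.card = q := by
    rw [hT, Finset.card_image_of_injective _ (algebraMap F K).injective, Finset.card_univ, hF]
  have hTS : T ⊆ S := by
    intro y hy
    obtain ⟨a, -, rfl⟩ := Finset.mem_image.mp hy
    rw [hS, Multiset.mem_toFinset, mem_roots hP0]
    simp only [IsRoot, hP, eval_sub, eval_pow, eval_X]
    rw [algebraMap_pow_card hF, sub_self]
  have hTeq : T = S := Finset.eq_of_subset_of_card_le hTS (by rw [hTcard]; exact hScard)
  have hxS : x ∈ S := by
    rw [hS, Multiset.mem_toFinset, mem_roots hP0]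
    simp only [IsRoot, hP, eval_sub, eval_pow, eval_X]
    rw [hx, sub_self]
  rw [← hTeq] at hxS
  obtain ⟨a, -, ha⟩ := Finset.mem_image.mp hxS
  exact ⟨a, ha⟩

theorem exists_not_mem_range (hF : Fintype.card F = q) (hK : Fintype.card K = q ^ 2) :
    ∃ ω : K, ∀ a : F, algebraMap F K a ≠ ω := by
  by_contra h
  push Not at h
  have hsurj : Function.Surjective (algebraMap F K) := h
  have := Fintype.card_le_of_surjective _ hsurj
  rw [hF, hK] at this
  have hq := two_le_card hF
  nlinarith

theorem finrank_eq_two (hF : Fintype.card F = q) (hK : Fintype.card K = q ^ 2) :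
    Module.finrank F K = 2 := by
  have h := Module.card_eq_pow_finrank (K := F) (V := K)
  rw [hF, hK] at h
  exact (Nat.pow_right_injective (two_le_card hF) h).symm

/-- Coordinates with respect to the basis `1, ω` of a quadratic extension. -/
theorem exists_coords (hF : Fintype.card F = q) (hK : Fintype.card K = q ^ 2) (ω : K)
    (hω : ∀ a : F, algebraMap F K a ≠ ω) :
    ∃ c₀ c₁ : K →ₗ[F] F,
      (∀ z : K, z = algebraMap F K (c₀ z) + algebraMap F K (c₁ z) * ω) ∧
      (∀ x y : F, c₀ (algebraMap F K x + algebraMap F K y * ω) = x) ∧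
      (∀ x y : F, c₁ (algebraMap F K x + algebraMap F K y * ω) = y) := by
  have hli : LinearIndependent F ![(1 : K), ω] := by
    rw [LinearIndependent.pair_iff]
    intro s t hst
    have ht : t = 0 := by
      by_contra ht
      apply hω (-(s / t))
      have h1 : t • ω = -(s • (1 : K)) := by
        rw [eq_neg_iff_add_eq_zero, add_comm]; exact hst
      have h2 : ω = t⁻¹ • (t • ω) := by rw [smul_smul, inv_mul_cancel₀ ht, one_smul]
      rw [h2, h1, Algebra.smul_def, Algebra.smul_def, mul_one, ← map_neg, ← map_mul]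
      congr 1
      field_simp
    refine ⟨?_, ht⟩
    rw [ht, zero_smul, add_zero, Algebra.smul_def, mul_one] at hst
    exact (map_eq_zero (algebraMap F K)).mp hst
  have hcard : Fintype.card (Fin 2) = Module.finrank F K := by
    rw [finrank_eq_two hF hK]; rfl
  set b := basisOfLinearIndependentOfCardEqFinrank hli hcard with hb
  have hb0 : b 0 = 1 := by
    rw [hb, coe_basisOfLinearIndependentOfCardEqFinrank]; rfl
  have hb1 : b 1 = ω := by
    rw [hb, coe_basisOfLinearIndependentOfCardEqFinrank]; rfl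
  have hrepr : ∀ x y : F, b.repr (algebraMap F K x + algebraMap F K y * ω) = Finsupp.single 0 x + Finsupp.single 1 y := by
    intro x y
    have : algebraMap F K x + algebraMap F K y * ω = x • b 0 + y • b 1 := by
      rw [hb0, hb1, Algebra.smul_def, Algebra.smul_def, mul_one]
    rw [this, map_add, map_smul, map_smul, Module.Basis.repr_self, Module.Basis.repr_self]
    simp
  refine ⟨b.coord 0, b.coord 1, ?_, ?_, ?_⟩
  · intro z
    have h := b.sum_repr z
    rw [Fin.sum_univ_two, hb0, hb1, Algebra.smul_def, Algebra.smul_def, mul_one] at h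
    exact h.symm
  · intro x y
    rw [Module.Basis.coord_apply, hrepr]
    simp
  · intro x y
    rw [Module.Basis.coord_apply, hrepr]
    simp

end Quadratic

section Restrict

variable {F K : Type*} [Field F] [Field K] [Algebra F K]
  {ι κ : Type*} [Fintype ι] [DecidableEq ι] [Fintype κ] [DecidableEq κ]

/-- conjugating the restriction of scalars of a matrix by `Ψ` -/
noncomputable def resLin (Ψ : (ι → K) ≃ₗ[F] (κ → F)) (g : Matrix ι ι K) : (κ → F) →ₗ[F] (κ → F) :=
  (Ψ : (ι → K) →ₗ[F] (κ → F)) ∘ₗ
    ((Matrix.toLin' g).restrictScalars F) ∘ₗ (Ψ.symm : (κ → F) →ₗ[F] (ι → K))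

theorem resLin_apply (Ψ : (ι → K) ≃ₗ[F] (κ → F)) (g : Matrix ι ι K) (w : κ → F) :
    resLin Ψ g w = Ψ (g.mulVec (Ψ.symm w)) := rfl

theorem resLin_one (Ψ : (ι → K) ≃ₗ[F] (κ → F)) : resLin Ψ (1 : Matrix ι ι K) = LinearMap.id := by
  apply LinearMap.ext
  intro w
  rw [resLin_apply, Matrix.one_mulVec, LinearEquiv.apply_symm_apply, LinearMap.id_apply]

theorem resLin_mul (Ψ : (ι → K) ≃ₗ[F] (κ → F)) (g h : Matrix ι ι K) :
    resLin Ψ (g * h) = resLin Ψ g * resLin Ψ h := by
  apply LinearMap.ext
  intro w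
  rw [Module.End.mul_apply, resLin_apply, resLin_apply, resLin_apply, LinearEquiv.symm_apply_apply,
    Matrix.mulVec_mulVec]

/-- Restriction of scalars for matrices along an `F`-linear identification `K^ι ≃ F^κ`. -/
noncomputable def resHom (Ψ : (ι → K) ≃ₗ[F] (κ → F)) : Matrix ι ι K →* Matrix κ κ F where
  toFun g := LinearMap.toMatrix' (resLin Ψ g)
  map_one' := by
    rw [resLin_one, LinearMap.toMatrix'_id]
  map_mul' g h := by
    rw [resLin_mul, LinearMap.toMatrix'_mul]

theorem resHom_mulVec (Ψ : (ι → K) ≃ₗ[F] (κ → F)) (g : Matrix ι ι K) (v : ι → K) :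
    (resHom Ψ g).mulVec (Ψ v) = Ψ (g.mulVec v) := by
  have h : Matrix.toLin' (resHom Ψ g) (Ψ v) = Ψ (g.mulVec v) := by
    show Matrix.toLin' (LinearMap.toMatrix' (resLin Ψ g)) (Ψ v) = _
    rw [Matrix.toLin'_toMatrix', resLin_apply, LinearEquiv.symm_apply_apply]
  rw [← h, Matrix.toLin'_apply]

theorem resHom_injective (Ψ : (ι → K) ≃ₗ[F] (κ → F)) : Function.Injective (resHom Ψ) := by
  intro g h hgh
  have h1 : ∀ v, g.mulVec v = h.mulVec v := by
    intro v
    apply Ψ.injective
    rw [← resHom_mulVec, ← resHom_mulVec, hgh]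
  have h2 : Matrix.toLin' g = Matrix.toLin' h := by
    refine LinearMap.ext fun v => ?_
    rw [Matrix.toLin'_apply, Matrix.toLin'_apply, h1]
  exact Matrix.toLin'.injective h2

/-- the induced injective homomorphism of general linear groups -/
noncomputable def resGL (Ψ : (ι → K) ≃ₗ[F] (κ → F)) : GL ι K →* GL κ F :=
  Units.map (resHom Ψ)

theorem resGL_coe (Ψ : (ι → K) ≃ₗ[F] (κ → F)) (g : GL ι K) :
    ((resGL Ψ g : GL κ F) : Matrix κ κ F) = resHom Ψ (g : Matrix ι ι K) := rfl

theorem resGL_injective (Ψ : (ι → K) ≃ₗ[F] (κ → F)) : Function.Injective (resGL Ψ) := by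
  intro g h hgh
  apply Units.ext
  apply resHom_injective Ψ
  rw [← resGL_coe, ← resGL_coe, hgh]

end Restrict

section Symplectic

open Matrix

variable {l R : Type*} [Fintype l] [DecidableEq l] [CommRing R]

/-- the alternating form of Mathlib's `J`, written out -/
theorem J_form (u v : l ⊕ l → R) :
    u ⬝ᵥ (Matrix.J l R *ᵥ v) =
      ∑ i, (u (Sum.inr i) * v (Sum.inl i) - u (Sum.inl i) * v (Sum.inr i)) := by
  simp only [dotProduct, Matrix.mulVec, Fintype.sum_sum_type, Matrix.J, Matrix.fromBlocks_apply₁₁,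
    Matrix.fromBlocks_apply₁₂, Matrix.fromBlocks_apply₂₁, Matrix.fromBlocks_apply₂₂,
    Matrix.zero_apply, Matrix.neg_apply, Matrix.one_apply, zero_mul, Finset.sum_const_zero,
    zero_add, add_zero, neg_mul, ite_mul, one_mul, Finset.sum_neg_distrib, Finset.sum_ite_eq,
    Finset.mem_univ, if_true, mul_neg]
  rw [Finset.sum_sub_distrib]
  ring

/-- a matrix preserving the form of `J` under `mulVec` is symplectic -/
theorem mem_symplectic_of_preserves (A : Matrix (l ⊕ l) (l ⊕ l) R)
    (h : ∀ u v : l ⊕ l → R, (A *ᵥ u) ⬝ᵥ (Matrix.J l R *ᵥ (A *ᵥ v)) = u ⬝ᵥ (Matrix.J l R *ᵥ v)) :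
    A ∈ Matrix.symplecticGroup l R := by
  rw [SymplecticGroup.mem_iff']
  have e : ∀ u v : l ⊕ l → R,
      (A *ᵥ u) ⬝ᵥ (Matrix.J l R *ᵥ (A *ᵥ v)) = u ⬝ᵥ ((Aᵀ * Matrix.J l R * A) *ᵥ v) := by
    intro u v
    rw [← Matrix.vecMul_transpose, ← Matrix.dotProduct_mulVec, Matrix.mulVec_mulVec,
      Matrix.mulVec_mulVec, Matrix.mul_assoc]
  ext i j
  have h1 := h (Pi.single i 1) (Pi.single j 1)
  rw [e] at h1
  simpa using h1

/-- a symplectic matrix preserves the form of `J` under `mulVec` -/
theorem preserves_of_mem_symplectic (A : Matrix (l ⊕ l) (l ⊕ l) R)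
    (hA : A ∈ Matrix.symplecticGroup l R) (u v : l ⊕ l → R) :
    (A *ᵥ u) ⬝ᵥ (Matrix.J l R *ᵥ (A *ᵥ v)) = u ⬝ᵥ (Matrix.J l R *ᵥ v) := by
  rw [SymplecticGroup.mem_iff'] at hA
  rw [← Matrix.vecMul_transpose, ← Matrix.dotProduct_mulVec, Matrix.mulVec_mulVec,
      Matrix.mulVec_mulVec, hA]

end Symplectic

end Cfsg.Agent.Helper44
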