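import Mathlib
import Cfsg.Prelude.Def_OddOrderLocal

set_option autoImplicit false

/-!
# CALL BG83 (helper25), piece SL2A (double, helper44)

`K` cyclic of odd order prime to `p`, acting on the nonabelian `P` of order `p ^ 3` with
`C_P(k) = P'` for every `k ≠ 1`; if some `k₀ ≠ 1` normalises a line `L` then `|K|` divides `p - 1`.
-/

namespace Cfsg.Agent.Helper44

open Cfsg Subgroup
open scoped commutatorElement

universe u

variable {G : Type u} [Group G] [Finite G]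

/-- A nonabelian group of order `p ^ 3` (a subgroup `P` of `G`): the derived subgroup is central
of order `p`, and it contains every element of `P` that is central in `P`. -/
theorem bg83a_p3 (p : ℕ) [Fact p.Prime] (P : Subgroup G) (hcard : Nat.card ↥P = p ^ 3)
    (hnab : ⁅P, P⁆ ≠ ⊥) :
    (∀ z ∈ ⁅P, P⁆, ∀ x ∈ P, z * x = x * z) ∧ Nat.card ↥⁅P, P⁆ = p ∧
      (∀ x ∈ P, (∀ y ∈ P, x * y = y * x) → x ∈ ⁅P, P⁆) ∧ ⁅P, P⁆ ≤ P := by
  have hp : p.Prime := Fact.out
  have hPp : IsPGroup p ↥P := IsPGroup.of_card hcard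
  have hmap : (_root_.commutator ↥P).map P.subtype = ⁅P, P⁆ := Subgroup.map_subtype_commutator P
  have hcomm_ne : _root_.commutator ↥P ≠ ⊥ := by
    intro h
    rw [h, Subgroup.map_bot] at hmap
    exact hnab hmap.symm
  haveI : Nontrivial ↥P := Finite.one_lt_card_iff_nontrivial.mp (by
    rw [hcard]; exact Nat.one_lt_pow (by norm_num) hp.one_lt)
  have hCnt : Nontrivial ↥(center ↥P) := hPp.center_nontrivial
  have hCdvd : Nat.card ↥(center ↥P) ∣ p ^ 3 := hcard ▸ Subgroup.card_subgroup_dvd_card (center ↥P)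
  obtain ⟨j, hj3, hCj⟩ := (Nat.dvd_prime_pow hp).mp hCdvd
  have hC1 : 1 < Nat.card ↥(center ↥P) := Finite.one_lt_card_iff_nontrivial.mpr hCnt
  have hj0 : j ≠ 0 := by
    rintro rfl
    rw [hCj, pow_zero] at hC1
    exact lt_irrefl _ hC1
  have hj3' : j ≠ 3 := by
    rintro rfl
    have htop : center ↥P = ⊤ := Subgroup.eq_top_of_card_eq _ (by rw [hCj, hcard])
    exact hcomm_ne ((commutator_eq_bot_iff_center_eq_top (G := ↥P)).mpr htop)
  have hj2 : j ≠ 2 := by
    rintro rfl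
    have hq : Nat.card (↥P ⧸ center ↥P) = p := by
      have h1 := Subgroup.card_eq_card_quotient_mul_card_subgroup (center ↥P)
      rw [hcard, hCj] at h1
      have h2 : p ^ 2 * p = p ^ 2 * Nat.card (↥P ⧸ center ↥P) := by
        rw [mul_comm (p ^ 2) (Nat.card _), ← h1]; ring
      exact (Nat.eq_of_mul_eq_mul_left (pow_pos hp.pos 2) h2).symm
    haveI : IsCyclic (↥P ⧸ center ↥P) := isCyclic_of_prime_card hq
    have hab : ∀ a b : ↥P, a * b = b * a :=
      commutative_of_cyclic_center_quotient (QuotientGroup.mk' (center ↥P))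
        (by rw [QuotientGroup.ker_mk'])
    have htop : center ↥P = ⊤ := by
      rw [Subgroup.eq_top_iff']
      intro g
      rw [Subgroup.mem_center_iff]
      intro h
      exact hab h g
    exact hcomm_ne ((commutator_eq_bot_iff_center_eq_top (G := ↥P)).mpr htop)
  have hj1 : j = 1 := by omega
  subst hj1
  rw [pow_one] at hCj
  have hq : Nat.card (↥P ⧸ center ↥P) = p ^ 2 := by
    have h1 := Subgroup.card_eq_card_quotient_mul_card_subgroup (center ↥P)
    rw [hcard, hCj] at h1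
    have h2 : p * p ^ 2 = p * Nat.card (↥P ⧸ center ↥P) := by
      rw [mul_comm p (Nat.card _), ← h1]; ring
    exact (Nat.eq_of_mul_eq_mul_left hp.pos h2).symm
  have hqc : ∀ a b : ↥P ⧸ center ↥P, a * b = b * a := fun a b =>
    (IsPGroup.isMulCommutative_of_card_eq_prime_sq hq).is_comm.comm a b
  have hle : _root_.commutator ↥P ≤ center ↥P := by
    rw [_root_.commutator_def, Subgroup.commutator_le]
    intro a _ b _
    rw [← QuotientGroup.eq_one_iff (N := center ↥P), commutatorElement_def]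
    have h1 := hqc (a : ↥P ⧸ center ↥P) (b : ↥P ⧸ center ↥P)
    simp only [QuotientGroup.mk_mul, QuotientGroup.mk_inv]
    rw [h1, mul_inv_cancel_right, mul_inv_cancel]
  have hCeq : _root_.commutator ↥P = center ↥P := by
    apply Subgroup.eq_of_le_of_card_ge hle
    rw [hCj]
    have hd : Nat.card ↥(_root_.commutator ↥P) ∣ p := hCj ▸ Subgroup.card_dvd_of_le hle
    rcases (Nat.dvd_prime hp).mp hd with h1 | h1
    · exact absurd (Subgroup.eq_bot_of_card_eq _ h1) hcomm_ne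
    · exact h1.ge
  refine ⟨?_, ?_, ?_, ?_⟩
  · intro z hz x hx
    rw [← hmap] at hz
    obtain ⟨w, hw, rfl⟩ := Subgroup.mem_map.mp hz
    have hwc : w ∈ center ↥P := hle hw
    have h1 := Subgroup.mem_center_iff.mp hwc ⟨x, hx⟩
    exact (congrArg Subtype.val h1).symm
  · rw [← hmap, Subgroup.card_map_of_injective P.subtype_injective, hCeq, hCj]
  · intro x hx hxy
    rw [← hmap]
    refine Subgroup.mem_map.mpr ⟨⟨x, hx⟩, ?_, rfl⟩
    rw [hCeq, Subgroup.mem_center_iff]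
    intro g
    exact Subtype.ext (hxy g.1 g.2).symm
  · rw [← hmap]
    exact Subgroup.map_subtype_le _

/-- Central factors drop out of a commutator. -/
theorem bg83a_cancel {H : Type*} [Group H] (X Y z : H) (h1 : Commute z X) (h2 : Commute z Y) :
    X * z * (Y * z) * (X * z)⁻¹ * (Y * z)⁻¹ = X * Y * X⁻¹ * Y⁻¹ := by
  calc X * z * (Y * z) * (X * z)⁻¹ * (Y * z)⁻¹ = X * (z * Y) * (X⁻¹ * z⁻¹) * Y⁻¹ := by group
    _ = X * (Y * z) * (z⁻¹ * X⁻¹) * Y⁻¹ := by rw [h2.eq, h1.symm.inv_inv.eq]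
    _ = X * Y * X⁻¹ * Y⁻¹ := by group

/-- Bilinearity of a central commutator. -/
theorem bg83a_comm_pow {H : Type*} [Group H] (x y : H) (hx : Commute (x * y * x⁻¹ * y⁻¹) x)
    (hy : Commute (x * y * x⁻¹ * y⁻¹) y) (m n : ℕ) :
    x ^ m * y ^ n * (x ^ m)⁻¹ * (y ^ n)⁻¹ = (x * y * x⁻¹ * y⁻¹) ^ (n * m) := by
  obtain ⟨c, hc⟩ : ∃ c, c = x * y * x⁻¹ * y⁻¹ := ⟨_, rfl⟩
  rw [← hc] at hx hy ⊢
  have h1 : x * y * x⁻¹ = c * y := by rw [hc]; group
  have h2 : x * y ^ n * x⁻¹ = c ^ n * y ^ n := by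
    rw [← conj_pow, h1, hy.mul_pow]
  have h3 : ∀ m : ℕ, x ^ m * y ^ n * (x ^ m)⁻¹ = (c ^ n) ^ m * y ^ n := by
    intro m
    induction m with
    | zero => simp
    | succ m ih =>
      have hcx : Commute x ((c ^ n) ^ m) := ((hx.pow_left n).pow_left m).symm
      have h4 : x * (c ^ n) ^ m * x⁻¹ = (c ^ n) ^ m := by
        rw [hcx.eq, mul_inv_cancel_right]
      calc x ^ (m + 1) * y ^ n * (x ^ (m + 1))⁻¹
          = x * (x ^ m * y ^ n * (x ^ m)⁻¹) * x⁻¹ := by rw [pow_succ']; group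
        _ = x * ((c ^ n) ^ m * y ^ n) * x⁻¹ := by rw [ih]
        _ = (x * (c ^ n) ^ m * x⁻¹) * (x * y ^ n * x⁻¹) := by group
        _ = (c ^ n) ^ m * (c ^ n * y ^ n) := by rw [h2, h4]
        _ = (c ^ n) ^ (m + 1) * y ^ n := by rw [pow_succ, mul_assoc]
  rw [h3 m, mul_inv_cancel_right, ← pow_mul]

/-- PIECE SL2A. -/
theorem bg83_sl2_fixed (p : ℕ) [Fact p.Prime] (hp2 : p ≠ 2) (P K : Subgroup G)
    (hcard : Nat.card ↥P = p ^ 3) (hnab : ⁅P, P⁆ ≠ ⊥) (hK : IsCyclic ↥K)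
    (hKP : K ≤ normalizer (P : Set G)) (hodd : Odd (Nat.card K)) (hcop : (Nat.card K).Coprime p)
    (hfpf : ∀ k ∈ K, k ≠ 1 → P ⊓ centralizer ({k} : Set G) = ⁅P, P⁆)
    {k₀ : G} (hk₀ : k₀ ∈ K) (hk₀1 : k₀ ≠ 1) (L : Subgroup G) (hL1 : ⁅P, P⁆ ≤ L) (hL2 : L ≤ P)
    (hL3 : Nat.card ↥L = p ^ 2) (hL4 : k₀ ∈ normalizer (L : Set G)) : Nat.card K ∣ p - 1 := by
  have hp : p.Prime := Fact.out
  obtain ⟨hZc, hZcard, hZcen, hZP⟩ := bg83a_p3 p P hcard hnab
  -- `K` centralises `Z = P'`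
  have hKZ : ∀ k ∈ K, ∀ z ∈ ⁅P, P⁆, k * z = z * k := by
    intro k hk z hz
    by_cases hk1 : k = 1
    · rw [hk1, one_mul, mul_one]
    · rw [← hfpf k hk hk1] at hz
      exact Subgroup.mem_centralizer_iff.mp (Subgroup.mem_inf.mp hz).2 k (Set.mem_singleton k)
  have hKPn : ∀ k ∈ K, ∀ x ∈ P, k * x * k⁻¹ ∈ P := fun k hk x hx =>
    (Subgroup.mem_normalizer_iff.mp (hKP hk) x).mp hx
  -- freeness modulo `Z`
  have hfree : ∀ k ∈ K, k ≠ 1 → ∀ x ∈ P, ∀ z ∈ ⁅P, P⁆, k * x * k⁻¹ = x * z → x ∈ ⁅P, P⁆ := by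
    intro k hk hk1 x hx z hz hkx
    have hpow : ∀ n : ℕ, k ^ n * x * (k ^ n)⁻¹ = x * z ^ n := by
      intro n
      induction n with
      | zero => simp
      | succ n ih =>
        have hzn : z ^ n ∈ ⁅P, P⁆ := Subgroup.pow_mem _ hz n
        calc k ^ (n + 1) * x * (k ^ (n + 1))⁻¹ = k * (k ^ n * x * (k ^ n)⁻¹) * k⁻¹ := by
              rw [pow_succ']; group
          _ = k * (x * z ^ n) * k⁻¹ := by rw [ih]
          _ = (k * x * k⁻¹) * (k * z ^ n * k⁻¹) := by group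
          _ = (x * z) * (z ^ n) := by rw [hkx, hKZ k hk _ hzn, mul_inv_cancel_right]
          _ = x * z ^ (n + 1) := by rw [pow_succ', mul_assoc]
    have h1 := hpow (orderOf k)
    rw [pow_orderOf_eq_one, one_mul, inv_one, mul_one] at h1
    have hz1 : z ^ orderOf k = 1 := by
      have h2 : x * z ^ orderOf k = x * 1 := by rw [mul_one]; exact h1.symm
      exact mul_left_cancel h2
    have hzp : z ^ p = 1 := by
      have h2 := pow_card_eq_one' (G := ↥⁅P, P⁆) (x := ⟨z, hz⟩)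
      rw [hZcard] at h2
      simpa using congrArg Subtype.val h2
    have hord : orderOf z ∣ Nat.gcd (orderOf k) p :=
      Nat.dvd_gcd (orderOf_dvd_of_pow_eq_one hz1) (orderOf_dvd_of_pow_eq_one hzp)
    have hkK : orderOf k ∣ Nat.card K := Subgroup.orderOf_dvd_natCard K hk
    have hg : Nat.gcd (orderOf k) p = 1 := Nat.Coprime.coprime_dvd_left hkK hcop
    rw [hg, Nat.dvd_one, orderOf_eq_one_iff] at hord
    rw [hord, mul_one] at hkx
    have hxc : x ∈ P ⊓ centralizer ({k} : Set G) := by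
      refine Subgroup.mem_inf.mpr ⟨hx, ?_⟩
      rw [Subgroup.mem_centralizer_iff]
      intro h hh
      rw [Set.mem_singleton_iff] at hh
      rw [hh]
      calc k * x = k * x * k⁻¹ * k := by group
        _ = x * k := by rw [hkx]
    rw [hfpf k hk hk1] at hxc
    exact hxc
  -- the quotient `L / Z` of order `p`
  have hLZ : ∀ x ∈ L, x ∉ ⁅P, P⁆ →
      (∀ u ∈ L, ∃ i : ℕ, ∃ z ∈ ⁅P, P⁆, u = x ^ i * z) ∧ x ^ p ∈ ⁅P, P⁆ := by
    intro x hx hxZ
    haveI hN : ((⁅P, P⁆).subgroupOf L).Normal := by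
      refine ⟨fun n hn g => ?_⟩
      rw [Subgroup.mem_subgroupOf] at hn ⊢
      have h1 : ((g * n * g⁻¹ : ↥L) : G) = (n : G) := by
        simp only [Subgroup.coe_mul, Subgroup.coe_inv]
        rw [← hZc (n : G) hn (g : G) (hL2 g.2), mul_inv_cancel_right]
      rw [h1]
      exact hn
    have hNcard : Nat.card ↥((⁅P, P⁆).subgroupOf L) = p := by
      rw [Nat.card_congr (Subgroup.subgroupOfEquivOfLe hL1).toEquiv, hZcard]
    have hQ : Nat.card (↥L ⧸ (⁅P, P⁆).subgroupOf L) = p := by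
      have h1 := Subgroup.card_eq_card_quotient_mul_card_subgroup ((⁅P, P⁆).subgroupOf L)
      rw [hL3, hNcard] at h1
      have h2 : p * p = p * Nat.card (↥L ⧸ (⁅P, P⁆).subgroupOf L) := by
        rw [mul_comm p (Nat.card _), ← h1, sq]
      exact (Nat.eq_of_mul_eq_mul_left hp.pos h2).symm
    have hx1 : ((⟨x, hx⟩ : ↥L) : ↥L ⧸ (⁅P, P⁆).subgroupOf L) ≠ 1 := by
      intro h
      rw [QuotientGroup.eq_one_iff, Subgroup.mem_subgroupOf] at h
      exact hxZ h
    refine ⟨fun u hu => ?_, ?_⟩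
    · obtain ⟨i, hi⟩ := mem_powers_of_prime_card hQ hx1
        (g' := ((⟨u, hu⟩ : ↥L) : ↥L ⧸ (⁅P, P⁆).subgroupOf L))
      have hi' : (((⟨x, hx⟩ : ↥L) ^ i : ↥L) : ↥L ⧸ (⁅P, P⁆).subgroupOf L)
          = ((⟨u, hu⟩ : ↥L) : ↥L ⧸ (⁅P, P⁆).subgroupOf L) := by
        rw [QuotientGroup.mk_pow]; exact hi
      rw [QuotientGroup.eq, Subgroup.mem_subgroupOf] at hi'
      refine ⟨i, (x ^ i)⁻¹ * u, by simpa using hi', by group⟩
    · have h := pow_card_eq_one' (G := ↥L ⧸ (⁅P, P⁆).subgroupOf L)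
        (x := ((⟨x, hx⟩ : ↥L) : ↥L ⧸ (⁅P, P⁆).subgroupOf L))
      rw [hQ, ← QuotientGroup.mk_pow, QuotientGroup.eq_one_iff, Subgroup.mem_subgroupOf] at h
      simpa using h
  -- `K` normalises `L`
  have hnormL : ∀ k ∈ K, ∀ u ∈ L, k * u * k⁻¹ ∈ L := by
    by_contra hcon
    push Not at hcon
    obtain ⟨k, hk, x, hxL, hyL⟩ := hcon
    have hxP : x ∈ P := hL2 hxL
    have hxZ : x ∉ ⁅P, P⁆ := by
      intro h
      apply hyL
      rw [hKZ k hk x h, mul_inv_cancel_right]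
      exact hxL
    obtain ⟨hgen, hxp⟩ := hLZ x hxL hxZ
    obtain ⟨y, hy⟩ : ∃ y, y = k * x * k⁻¹ := ⟨_, rfl⟩
    rw [← hy] at hyL
    have hyP : y ∈ P := by rw [hy]; exact hKPn k hk x hxP
    have hk₀x : k₀ * x * k₀⁻¹ ∈ L := (Subgroup.mem_normalizer_iff.mp hL4 x).mp hxL
    obtain ⟨a, z₁, hz₁, hxa⟩ := hgen _ hk₀x
    have hcomm : k₀ * k = k * k₀ := by
      have h1 := (IsCyclic.isMulCommutative (α := ↥K)).is_comm.comm ⟨k₀, hk₀⟩ ⟨k, hk⟩
      exact congrArg Subtype.val h1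
    have hya : k₀ * y * k₀⁻¹ = y ^ a * z₁ := by
      have e1 : k₀ * (k * x * k⁻¹) * k₀⁻¹ = (k₀ * k) * x * (k₀ * k)⁻¹ := by group
      have e2 : (k * k₀) * x * (k * k₀)⁻¹ = k * (k₀ * x * k₀⁻¹) * k⁻¹ := by group
      calc k₀ * y * k₀⁻¹ = k * (k₀ * x * k₀⁻¹) * k⁻¹ := by rw [hy, e1, hcomm, e2]
        _ = k * (x ^ a * z₁) * k⁻¹ := by rw [hxa]
        _ = (k * x ^ a * k⁻¹) * (k * z₁ * k⁻¹) := by group
        _ = y ^ a * z₁ := by rw [← conj_pow, ← hy, hKZ k hk z₁ hz₁, mul_inv_cancel_right]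
    obtain ⟨c, hc⟩ : ∃ c, c = x * y * x⁻¹ * y⁻¹ := ⟨_, rfl⟩
    have hcZ : c ∈ ⁅P, P⁆ := by
      rw [hc]
      have h1 := Subgroup.commutator_mem_commutator hxP hyP
      rwa [commutatorElement_def] at h1
    have hcx : Commute c x := hZc c hcZ x hxP
    have hcy : Commute c y := hZc c hcZ y hyP
    have hk₀c : k₀ * c * k₀⁻¹ = c := by rw [hKZ k₀ hk₀ c hcZ, mul_inv_cancel_right]
    have hbil := bg83a_comm_pow x y (hc ▸ hcx) (hc ▸ hcy) a a
    rw [← hc] at hbil
    have hk₀c' : k₀ * c * k₀⁻¹ = c ^ (a * a) := by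
      have e1 : k₀ * c * k₀⁻¹
          = (k₀ * x * k₀⁻¹) * (k₀ * y * k₀⁻¹) * (k₀ * x * k₀⁻¹)⁻¹ * (k₀ * y * k₀⁻¹)⁻¹ := by
        rw [hc]; group
      have hzx : Commute z₁ (x ^ a) := (show Commute z₁ x from hZc z₁ hz₁ x hxP).pow_right a
      have hzy : Commute z₁ (y ^ a) := (show Commute z₁ y from hZc z₁ hz₁ y hyP).pow_right a
      rw [e1, hxa, hya, bg83a_cancel (x ^ a) (y ^ a) z₁ hzx hzy]
      exact hbil
    have hcc : c ^ (a * a) = c := hk₀c'.symm.trans hk₀c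
    have hc1 : c ≠ 1 := by
      intro h
      have hxy : x * y = y * x := by
        have h1 : x * y * x⁻¹ * y⁻¹ = 1 := by rw [← hc]; exact h
        calc x * y = (x * y * x⁻¹ * y⁻¹) * (y * x) := by group
          _ = y * x := by rw [h1, one_mul]
      have hLD : L ≤ P ⊓ centralizer ({x} : Set G) := by
        intro u hu
        refine Subgroup.mem_inf.mpr ⟨hL2 hu, ?_⟩
        rw [Subgroup.mem_centralizer_iff]
        intro h hh
        rw [Set.mem_singleton_iff] at hh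
        rw [hh]
        obtain ⟨i, z, hz, rfl⟩ := hgen u hu
        have hzc : z * x = x * z := hZc z hz x hxP
        calc x * (x ^ i * z) = x ^ i * (x * z) := by
              rw [← mul_assoc, ← pow_succ', pow_succ, mul_assoc]
          _ = x ^ i * z * x := by rw [← hzc, mul_assoc]
      have hyD : y ∈ P ⊓ centralizer ({x} : Set G) := by
        refine Subgroup.mem_inf.mpr ⟨hyP, ?_⟩
        rw [Subgroup.mem_centralizer_iff]
        intro h hh
        rw [Set.mem_singleton_iff] at hh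
        rw [hh]
        exact hxy
      have hDP : P ⊓ centralizer ({x} : Set G) ≤ P := inf_le_left
      have hDdvd : Nat.card ↥(P ⊓ centralizer ({x} : Set G)) ∣ p ^ 3 :=
        hcard ▸ Subgroup.card_dvd_of_le hDP
      obtain ⟨j, hj3, hDj⟩ := (Nat.dvd_prime_pow hp).mp hDdvd
      have hLdvd : p ^ 2 ∣ p ^ j := by
        rw [← hL3, ← hDj]; exact Subgroup.card_dvd_of_le hLD
      have hj2 : 2 ≤ j := (Nat.pow_dvd_pow_iff_le_right hp.one_lt).mp hLdvd
      have hjne : j ≠ 2 := by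
        rintro rfl
        have h1 : L = P ⊓ centralizer ({x} : Set G) :=
          Subgroup.eq_of_le_of_card_ge hLD (by rw [hDj, hL3])
        exact hyL (h1 ▸ hyD)
      have hj : j = 3 := by omega
      subst hj
      have hDeq : P ⊓ centralizer ({x} : Set G) = P :=
        Subgroup.eq_of_le_of_card_ge hDP (by rw [hDj, hcard])
      apply hxZ
      apply hZcen x hxP
      intro w hw
      rw [← hDeq] at hw
      exact Subgroup.mem_centralizer_iff.mp (Subgroup.mem_inf.mp hw).2 x (Set.mem_singleton x)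
    have hcp : c ^ p = 1 := by
      have h2 := pow_card_eq_one' (G := ↥⁅P, P⁆) (x := ⟨c, hcZ⟩)
      rw [hZcard] at h2
      simpa using congrArg Subtype.val h2
    have hoc : orderOf c = p := by
      rcases (Nat.dvd_prime hp).mp (orderOf_dvd_of_pow_eq_one hcp) with h | h
      · exact absurd (orderOf_eq_one_iff.mp h) hc1
      · exact h
    have ha0 : a * a ≠ 0 := by
      intro h
      rw [h, pow_zero] at hcc
      exact hc1 hcc.symm
    have hpd : p ∣ a * a - 1 := by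
      rw [← hoc]
      apply orderOf_dvd_of_pow_eq_one
      have h1 : c ^ (a * a - 1) * c = 1 * c := by
        rw [← pow_succ, Nat.sub_add_cancel (Nat.one_le_iff_ne_zero.mpr ha0), one_mul]
        exact hcc
      exact mul_right_cancel h1
    obtain ⟨t, ht⟩ := hpd
    have hxaa : x ^ (a * a) = x * x ^ (a * a - 1) := by
      rw [← pow_succ', Nat.sub_add_cancel (Nat.one_le_iff_ne_zero.mpr ha0)]
    have hsq : (k₀ * k₀) * x * (k₀ * k₀)⁻¹ = x * (x ^ (a * a - 1) * (z₁ ^ a * z₁)) := by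
      have hzx : Commute z₁ (x ^ a) := (show Commute z₁ x from hZc z₁ hz₁ x hxP).pow_right a
      calc (k₀ * k₀) * x * (k₀ * k₀)⁻¹ = k₀ * (k₀ * x * k₀⁻¹) * k₀⁻¹ := by group
        _ = k₀ * (x ^ a * z₁) * k₀⁻¹ := by rw [hxa]
        _ = (k₀ * x ^ a * k₀⁻¹) * (k₀ * z₁ * k₀⁻¹) := by group
        _ = (x ^ a * z₁) ^ a * z₁ := by
            rw [← conj_pow, hxa, hKZ k₀ hk₀ z₁ hz₁, mul_inv_cancel_right]
        _ = (x ^ a) ^ a * z₁ ^ a * z₁ := by rw [hzx.symm.mul_pow]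
        _ = x ^ (a * a) * (z₁ ^ a * z₁) := by rw [← pow_mul, mul_assoc]
        _ = x * (x ^ (a * a - 1) * (z₁ ^ a * z₁)) := by rw [hxaa, mul_assoc]
    have hz' : x ^ (a * a - 1) * (z₁ ^ a * z₁) ∈ ⁅P, P⁆ := by
      refine Subgroup.mul_mem _ ?_ (Subgroup.mul_mem _ (Subgroup.pow_mem _ hz₁ a) hz₁)
      rw [ht, pow_mul]
      exact Subgroup.pow_mem _ hxp t
    have hkk : k₀ * k₀ = 1 := by
      by_contra hne
      exact hxZ (hfree (k₀ * k₀) (K.mul_mem hk₀ hk₀) hne x hxP _ hz' hsq)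
    have ho2 : orderOf k₀ ∣ 2 := orderOf_dvd_of_pow_eq_one (by rw [sq]; exact hkk)
    have hoK : orderOf k₀ ∣ Nat.card K := Subgroup.orderOf_dvd_natCard K hk₀
    rcases (Nat.dvd_prime Nat.prime_two).mp ho2 with h | h
    · exact hk₀1 (orderOf_eq_one_iff.mp h)
    · rw [h] at hoK
      exact (Nat.not_even_iff_odd.mpr hodd) (even_iff_two_dvd.mpr hoK)
  -- `K` acts freely on `L \ Z`
  have hcard_T : Nat.card ↥((L : Set G) \ ((⁅P, P⁆ : Subgroup G) : Set G)) = p ^ 2 - p := by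
    rw [Nat.card_coe_set_eq, Set.ncard_sdiff (by exact_mod_cast hL1)]
    have h1 : (L : Set G).ncard = p ^ 2 := by rw [← Nat.card_coe_set_eq]; exact hL3
    have h2 : ((⁅P, P⁆ : Subgroup G) : Set G).ncard = p := by
      rw [← Nat.card_coe_set_eq]; exact hZcard
    rw [h1, h2]
  letI act : MulAction ↥K ↥((L : Set G) \ ((⁅P, P⁆ : Subgroup G) : Set G)) :=
    { smul := fun k u => ⟨(k : G) * u.1 * (k : G)⁻¹, hnormL k k.2 u.1 u.2.1, fun h => u.2.2 (by
          have h' : (k : G) * u.1 * (k : G)⁻¹ ∈ ⁅P, P⁆ := h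
          have e := hKZ (k : G) k.2 _ h'
          have e2 : (k : G) * u.1 * (k : G)⁻¹ = u.1 := by
            have e3 : (k : G) * ((k : G) * u.1 * (k : G)⁻¹) = (k : G) * u.1 := by
              rw [e]; group
            exact mul_left_cancel e3
          rw [e2] at h'
          exact h')⟩
      one_smul := fun u => Subtype.ext (by
        show ((1 : ↥K) : G) * u.1 * ((1 : ↥K) : G)⁻¹ = u.1
        simp)
      mul_smul := fun a b u => Subtype.ext (by
        show ((a * b : ↥K) : G) * u.1 * ((a * b : ↥K) : G)⁻¹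
          = (a : G) * ((b : G) * u.1 * (b : G)⁻¹) * (a : G)⁻¹
        simp [mul_assoc]) }
  have hstab : ∀ u : ↥((L : Set G) \ ((⁅P, P⁆ : Subgroup G) : Set G)),
      MulAction.stabilizer ↥K u = ⊥ := by
    intro u
    rw [Subgroup.eq_bot_iff_forall]
    intro k hk
    rw [MulAction.mem_stabilizer_iff] at hk
    have hk' : (k : G) * u.1 * (k : G)⁻¹ = u.1 := congrArg Subtype.val hk
    by_contra hne
    have hne' : (k : G) ≠ 1 := fun h => hne (Subtype.ext h)
    exact u.2.2 (hfree (k : G) k.2 hne' u.1 (hL2 u.2.1) 1 (Subgroup.one_mem _)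
      (by rw [mul_one]; exact hk'))
  have hequiv := MulAction.selfEquivOrbitsQuotientProd hstab
  have hmul : Nat.card ↥((L : Set G) \ ((⁅P, P⁆ : Subgroup G) : Set G))
      = Nat.card (Quotient (MulAction.orbitRel ↥K
          ↥((L : Set G) \ ((⁅P, P⁆ : Subgroup G) : Set G)))) * Nat.card ↥K := by
    rw [Nat.card_congr hequiv, Nat.card_prod]
  have hdvd : Nat.card ↥K ∣ p ^ 2 - p := by
    rw [← hcard_T, hmul]
    exact dvd_mul_left _ _
  have hpp : p ^ 2 - p = p * (p - 1) := by rw [Nat.mul_sub, mul_one, sq]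
  rw [hpp] at hdvd
  exact hcop.dvd_of_dvd_mul_left hdvd

end Cfsg.Agent.Helper44
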