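import Mathlib
import Cfsg.Prelude.Def_GeometricClasses
import Cfsg.Prelude.Def_Classical
import Cfsg.Agent.Helper98.ELPDefs

/-!
# Sub-CALL ELP (helper98), piece GEN: core (helper44)

`sieg_mem_omega_of`: every Siegel element lies in `Ω` when `card n ≥ 3`, given the statements of
the pieces SINGLE (`single_conj`) and COMM (`sieg_comm_mem`) as hypotheses.
-/

set_option autoImplicit false

namespace Cfsg.Agent.Helper44.ELP

open Matrix Cfsg.Agent.Helper98.ELP
open scoped MatrixGroups

variable {n : Type} [Fintype n] [DecidableEq n] {F : Type*} [Field F]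

/-- a third index -/
theorem gen_exists_third (h3 : 3 ≤ Fintype.card n) (a c : n) : ∃ b : n, a ≠ b ∧ b ≠ c := by
  classical
  by_contra hcon
  push_neg at hcon
  have hsub : (Finset.univ : Finset n) ⊆ {a, c} := by
    intro b _
    by_cases hab : a = b
    · simp [hab]
    · simp [hcon b hab]
  have h1 := Finset.card_le_card hsub
  have h2 : ({a, c} : Finset n).card ≤ 2 := Finset.card_le_two
  rw [Finset.card_univ] at h1
  omega

/-- the diagonal units give the identity -/
theorem gen_sieg_diag (a : n) (l : F) : sieg (Matrix.single a a l) = 1 := by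
  rw [← sieg_zero]
  apply Units.ext
  show siegM (Matrix.single a a l) = siegM 0
  simp [siegM, Matrix.transpose_single]

/-- GEN, with the statements of SINGLE and COMM as hypotheses. -/
theorem sieg_mem_omega_of
    (hS : ∀ (a b c : n), a ≠ b → b ≠ c → ∀ l : F,
      ∃ A : GL n F, (A : Matrix n n F) * Matrix.single b c (1 : F) * (A : Matrix n n F)ᵀ
        - Matrix.single b c (1 : F) = Matrix.single a c l)
    (hC : ∀ (A : GL n F) (T : Matrix n n F),
      sieg ((A : Matrix n n F) * T * (A : Matrix n n F)ᵀ - T) ∈ Cfsg.Geo.omegaGL (qp n F))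
    (h3 : 3 ≤ Fintype.card n) (T : Matrix n n F) :
    sieg T ∈ Cfsg.Geo.omegaGL (qp n F) := by
  classical
  have hunit : ∀ (a c : n) (l : F), sieg (Matrix.single a c l) ∈ Cfsg.Geo.omegaGL (qp n F) := by
    intro a c l
    by_cases hac : a = c
    · subst hac
      rw [gen_sieg_diag]
      exact Subgroup.one_mem _
    · obtain ⟨b, hab, hbc⟩ := gen_exists_third h3 a c
      obtain ⟨A, hA⟩ := hS a b c hab hbc l
      have := hC A (Matrix.single b c (1 : F))
      rwa [hA] at this
  have hadd : ∀ S₁ S₂ : Matrix n n F, sieg S₁ ∈ Cfsg.Geo.omegaGL (qp n F) →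
      sieg S₂ ∈ Cfsg.Geo.omegaGL (qp n F) → sieg (S₁ + S₂) ∈ Cfsg.Geo.omegaGL (qp n F) := by
    intro S₁ S₂ h₁ h₂
    rw [← sieg_mul]
    exact Subgroup.mul_mem _ h₁ h₂
  have hzero : sieg (0 : Matrix n n F) ∈ Cfsg.Geo.omegaGL (qp n F) := by
    rw [sieg_zero]; exact Subgroup.one_mem _
  rw [Matrix.matrix_eq_sum_single T]
  refine Finset.sum_induction _ (fun S => sieg S ∈ Cfsg.Geo.omegaGL (qp n F)) hadd hzero ?_
  intro a _
  refine Finset.sum_induction _ (fun S => sieg S ∈ Cfsg.Geo.omegaGL (qp n F)) hadd hzero ?_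
  intro c _
  exact hunit a c (T a c)

end Cfsg.Agent.Helper44.ELP
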