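import Mathlib
import Cfsg.Prelude.Def_GeometricClasses
import Cfsg.Prelude.Def_Classical
import Cfsg.Agent.Helper98.ELPDefs

/-!
# Sub-CALL ELP (helper98), piece SINGLE (double by helper44)
-/

set_option autoImplicit false

namespace Cfsg.Agent.Helper44.ELP

open Matrix Cfsg.Agent.Helper98.ELP
open scoped MatrixGroups

variable {n : Type} [Fintype n] [DecidableEq n] {F : Type*} [Field F]

/-- SINGLE [M]: `A = 1 + single a b l` (inverse `1 - single a b l`, `a ≠ b`):
`A * single b c 1 * Aᵀ = single b c 1 + single a c l` for `b ≠ c`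
(`Matrix.single_mul_single_same`, `Matrix.single_mul_single_of_ne`, `Matrix.transpose_single`). -/
theorem single_conj (a b c : n) (hab : a ≠ b) (hbc : b ≠ c) (l : F) :
    ∃ A : GL n F, (A : Matrix n n F) * Matrix.single b c (1 : F) * (A : Matrix n n F)ᵀ
      - Matrix.single b c (1 : F) = Matrix.single a c l := by
  have hsq : Matrix.single a b l * Matrix.single a b l = (0 : Matrix n n F) :=
    Matrix.single_mul_single_of_ne l a b a (Ne.symm hab) l
  have h1 : Matrix.single a b l * Matrix.single b c (1 : F) = Matrix.single a c l := by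
    rw [Matrix.single_mul_single_same, mul_one]
  have h2 : Matrix.single b c (1 : F) * Matrix.single b a l = (0 : Matrix n n F) :=
    Matrix.single_mul_single_of_ne 1 b c b (Ne.symm hbc) l
  have h3 : Matrix.single a c l * Matrix.single b a l = (0 : Matrix n n F) :=
    Matrix.single_mul_single_of_ne l a c b (Ne.symm hbc) l
  refine ⟨⟨1 + Matrix.single a b l, 1 - Matrix.single a b l, ?_, ?_⟩, ?_⟩
  · rw [add_mul, mul_sub, mul_sub, Matrix.one_mul, Matrix.mul_one, Matrix.one_mul, hsq]
    abel
  · rw [sub_mul, mul_add, mul_add, Matrix.one_mul, Matrix.mul_one, Matrix.one_mul, hsq]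
    abel
  · show (1 + Matrix.single a b l) * Matrix.single b c (1 : F) * (1 + Matrix.single a b l)ᵀ
      - Matrix.single b c (1 : F) = Matrix.single a c l
    rw [Matrix.transpose_add, Matrix.transpose_one, Matrix.transpose_single, add_mul,
      Matrix.one_mul, h1, mul_add, Matrix.mul_one, add_mul, h2, h3]
    abel

end Cfsg.Agent.Helper44.ELP
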