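import Cfsg.Agent.Helper44.PSL2A

set_option autoImplicit false

/-!
Helper library (helper44): the automorphisms of `PSL₂(F)` induced by conjugation with elements of
`GL₂(F)` (`dAut`) and by field automorphisms (`fAut`), and their commutation rule.
-/

namespace Cfsg.Agent.Helper44

open Matrix Cfsg.Agent.Helper5

universe u

section Auts

variable {F : Type u} [Field F]

/-- conjugation of `SL₂(F)` by an element of `GL₂(F)` -/
def conjFun (g : GL (Fin 2) F) (s : SL2 F) : SL2 F :=
  ⟨(g : Matrix (Fin 2) (Fin 2) F) * (s : Matrix (Fin 2) (Fin 2) F)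
      * ((g⁻¹ : GL (Fin 2) F) : Matrix (Fin 2) (Fin 2) F), by
    rw [Matrix.det_units_conj]; exact s.2⟩

theorem conjFun_coe (g : GL (Fin 2) F) (s : SL2 F) :
    ((conjFun g s : SL2 F) : Matrix (Fin 2) (Fin 2) F)
      = (g : Matrix (Fin 2) (Fin 2) F) * (s : Matrix (Fin 2) (Fin 2) F)
        * ((g⁻¹ : GL (Fin 2) F) : Matrix (Fin 2) (Fin 2) F) := rfl

theorem conjFun_mul (g : GL (Fin 2) F) (s t : SL2 F) :
    conjFun g (s * t) = conjFun g s * conjFun g t := by
  apply Subtype.ext
  simp only [conjFun_coe, Matrix.SpecialLinearGroup.coe_mul]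
  simp [mul_assoc]

theorem conjFun_comp (g h : GL (Fin 2) F) (s : SL2 F) :
    conjFun (g * h) s = conjFun g (conjFun h s) := by
  apply Subtype.ext
  simp only [conjFun_coe]
  simp [mul_assoc]

theorem conjFun_one (s : SL2 F) : conjFun (1 : GL (Fin 2) F) s = s := by
  apply Subtype.ext
  simp [conjFun_coe]

/-- conjugation by `g ∈ GL₂(F)` as an automorphism of `SL₂(F)` -/
def conjSL : GL (Fin 2) F →* MulAut (SL2 F) where
  toFun g :=
    { toFun := conjFun g
      invFun := conjFun g⁻¹
      left_inv := fun s => by rw [← conjFun_comp, inv_mul_cancel, conjFun_one]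
      right_inv := fun s => by rw [← conjFun_comp, mul_inv_cancel, conjFun_one]
      map_mul' := conjFun_mul g }
  map_one' := by
    apply MulEquiv.ext
    intro s
    exact conjFun_one s
  map_mul' g h := by
    apply MulEquiv.ext
    intro s
    exact conjFun_comp g h s

theorem conjSL_apply (g : GL (Fin 2) F) (s : SL2 F) : conjSL g s = conjFun g s := rfl

/-- a field automorphism applied to the entries of an element of `SL₂(F)` -/
def mapFun (σ : RingAut F) (s : SL2 F) : SL2 F :=
  Matrix.SpecialLinearGroup.map (σ : F →+* F) s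

theorem mapFun_coe (σ : RingAut F) (s : SL2 F) :
    ((mapFun σ s : SL2 F) : Matrix (Fin 2) (Fin 2) F)
      = (s : Matrix (Fin 2) (Fin 2) F).map σ := rfl

theorem mapFun_mul (σ : RingAut F) (s t : SL2 F) :
    mapFun σ (s * t) = mapFun σ s * mapFun σ t :=
  map_mul (Matrix.SpecialLinearGroup.map (σ : F →+* F)) s t

theorem mapFun_comp (σ τ : RingAut F) (s : SL2 F) :
    mapFun (σ * τ) s = mapFun σ (mapFun τ s) := by
  apply Subtype.ext
  ext i j
  simp [mapFun_coe, RingAut.mul_apply]

theorem mapFun_one (s : SL2 F) : mapFun (1 : RingAut F) s = s := by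
  apply Subtype.ext
  ext i j
  simp [mapFun_coe]

/-- a field automorphism as an automorphism of `SL₂(F)` -/
def mapSL : RingAut F →* MulAut (SL2 F) where
  toFun σ :=
    { toFun := mapFun σ
      invFun := mapFun σ⁻¹
      left_inv := fun s => by rw [← mapFun_comp, inv_mul_cancel, mapFun_one]
      right_inv := fun s => by rw [← mapFun_comp, mul_inv_cancel, mapFun_one]
      map_mul' := mapFun_mul σ }
  map_one' := by
    apply MulEquiv.ext
    intro s
    exact mapFun_one s
  map_mul' σ τ := by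
    apply MulEquiv.ext
    intro s
    exact mapFun_comp σ τ s

theorem mapSL_apply (σ : RingAut F) (s : SL2 F) : mapSL σ s = mapFun σ s := rfl

/-- an automorphism of `SL₂(F)` induces an automorphism of `PSL₂(F)` -/
def quotAut : MulAut (SL2 F) →* MulAut (PSL2 F) where
  toFun e := QuotientGroup.congr (Subgroup.center (SL2 F)) (Subgroup.center (SL2 F)) e
    (Subgroup.characteristic_iff_map_eq.mp inferInstance e)
  map_one' := by
    apply MulEquiv.ext
    intro x
    obtain ⟨s, rfl⟩ := pr_surjective x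
    rfl
  map_mul' e₁ e₂ := by
    apply MulEquiv.ext
    intro x
    obtain ⟨s, rfl⟩ := pr_surjective x
    rfl

theorem quotAut_pr (e : MulAut (SL2 F)) (s : SL2 F) : quotAut e (pr s) = pr (e s) := rfl

/-- the automorphism of `PSL₂(F)` induced by conjugation with `g ∈ GL₂(F)` -/
def dAut : GL (Fin 2) F →* MulAut (PSL2 F) := quotAut.comp conjSL

/-- the automorphism of `PSL₂(F)` induced by a field automorphism -/
def fAut : RingAut F →* MulAut (PSL2 F) := quotAut.comp mapSL

theorem dAut_pr (g : GL (Fin 2) F) (s : SL2 F) : dAut g (pr s) = pr (conjFun g s) := rfl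

theorem fAut_pr (σ : RingAut F) (s : SL2 F) : fAut σ (pr s) = pr (mapFun σ s) := rfl

theorem fAut_X (σ : RingAut F) (t : F) : fAut σ (X t) = X (σ t) := by
  unfold X
  rw [fAut_pr]
  congr 1
  apply Subtype.ext
  rw [mapFun_coe, uSL_coe, uSL_coe]
  ext i j
  fin_cases i <;> fin_cases j <;> simp

theorem fAut_Y (σ : RingAut F) (t : F) : fAut σ (Y t) = Y (σ t) := by
  unfold Y
  rw [fAut_pr]
  congr 1
  apply Subtype.ext
  rw [mapFun_coe, lSL_coe, lSL_coe]
  ext i j
  fin_cases i <;> fin_cases j <;> simp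

/-- the diagonal matrix `diag(c, 1)` -/
def dGL (c : F) (hc : c ≠ 0) : GL (Fin 2) F :=
  ⟨!![c, 0; 0, 1], !![c⁻¹, 0; 0, 1],
    by rw [Matrix.mul_fin_two, Matrix.one_fin_two, mat2_eq_iff]; simp [hc],
    by rw [Matrix.mul_fin_two, Matrix.one_fin_two, mat2_eq_iff]; simp [hc]⟩

theorem dAut_dGL_X (c : F) (hc : c ≠ 0) (t : F) : dAut (dGL c hc) (X t) = X (c * t) := by
  unfold X
  rw [dAut_pr]
  congr 1
  apply Subtype.ext
  rw [conjFun_coe, uSL_coe, uSL_coe]
  show (!![c, 0; 0, 1] : Matrix (Fin 2) (Fin 2) F) * !![1, t; 0, 1] * !![c⁻¹, 0; 0, 1] = _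
  rw [Matrix.mul_fin_two, Matrix.mul_fin_two, mat2_eq_iff]
  refine ⟨?_, by ring, by ring, by ring⟩
  field_simp
  ring

theorem dAut_dGL_Y (c : F) (hc : c ≠ 0) (t : F) : dAut (dGL c hc) (Y t) = Y (t / c) := by
  unfold Y
  rw [dAut_pr]
  congr 1
  apply Subtype.ext
  rw [conjFun_coe, lSL_coe, lSL_coe]
  show (!![c, 0; 0, 1] : Matrix (Fin 2) (Fin 2) F) * !![1, 0; t, 1] * !![c⁻¹, 0; 0, 1] = _
  rw [Matrix.mul_fin_two, Matrix.mul_fin_two, mat2_eq_iff]
  refine ⟨?_, by ring, ?_, by ring⟩
  · field_simp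
    ring
  · field_simp
    ring

/-- inner automorphisms are induced by conjugation with elements of `SL₂(F)` -/
theorem conj_pr (s : SL2 F) :
    MulAut.conj (pr s) = dAut (Matrix.SpecialLinearGroup.toGL s) := by
  apply MulEquiv.ext
  intro x
  obtain ⟨y, rfl⟩ := pr_surjective x
  rw [MulAut.conj_apply, dAut_pr, ← map_inv, ← map_mul, ← map_mul]
  congr 1

/-- the commutation rule between field and diagonal automorphisms -/
theorem fAut_mul_dAut (σ : RingAut F) (g : GL (Fin 2) F) :
    fAut σ * dAut g = dAut (Matrix.GeneralLinearGroup.map (σ : F →+* F) g) * fAut σ := by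
  apply MulEquiv.ext
  intro x
  obtain ⟨s, rfl⟩ := pr_surjective x
  rw [MulAut.mul_apply, MulAut.mul_apply, dAut_pr, fAut_pr, fAut_pr, dAut_pr]
  congr 1
  apply Subtype.ext
  rw [mapFun_coe, conjFun_coe, conjFun_coe, mapFun_coe, ← Matrix.GeneralLinearGroup.map_inv]
  show (((g : Matrix (Fin 2) (Fin 2) F) * (s : Matrix (Fin 2) (Fin 2) F)
      * ((g⁻¹ : GL (Fin 2) F) : Matrix (Fin 2) (Fin 2) F)).map (σ : F →+* F))
    = (g : Matrix (Fin 2) (Fin 2) F).map (σ : F →+* F)
      * (s : Matrix (Fin 2) (Fin 2) F).map (σ : F →+* F)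
      * ((g⁻¹ : GL (Fin 2) F) : Matrix (Fin 2) (Fin 2) F).map (σ : F →+* F)
  rw [Matrix.map_mul, Matrix.map_mul]

end Auts

end Cfsg.Agent.Helper44
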