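import Cfsg.Agent.Helper44.PSL2B

set_option autoImplicit false

/-!
Helper library (helper44): every automorphism of `PSL₂(F)`, `F` a finite field, is the composite of
a field automorphism and the conjugation by an element of `GL₂(F)`; the field automorphism is
unique.
-/

namespace Cfsg.Agent.Helper44

open Matrix Cfsg.Agent.Helper5

universe u

section Unique

variable {F : Type u} [Field F]

/-- a conjugation by an element of `GL₂(F)` which is also a field automorphism is trivial, and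
the conjugating matrix is scalar -/
theorem dAut_eq_fAut (h : GL (Fin 2) F) (ρ : RingAut F) (heq : dAut h = fAut ρ) :
    (∃ a : F, (h : Matrix (Fin 2) (Fin 2) F) = a • (1 : Matrix (Fin 2) (Fin 2) F)) ∧ ρ = 1 := by
  have hMi : ((h⁻¹ : GL (Fin 2) F) : Matrix (Fin 2) (Fin 2) F) * (h : Matrix (Fin 2) (Fin 2) F)
      = 1 := by
    rw [← Units.val_mul, inv_mul_cancel, Units.val_one]
  have hM : (h : Matrix (Fin 2) (Fin 2) F) * ((h⁻¹ : GL (Fin 2) F) : Matrix (Fin 2) (Fin 2) F)
      = 1 := by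
    rw [← Units.val_mul, mul_inv_cancel, Units.val_one]
  have hdet : (h : Matrix (Fin 2) (Fin 2) F).det ≠ 0 := by
    intro h0
    have h1 := congrArg Matrix.det hM
    rw [Matrix.det_mul, h0, zero_mul, Matrix.det_one] at h1
    exact zero_ne_one h1
  have heta : (h : Matrix (Fin 2) (Fin 2) F)
      = !![(h : Matrix (Fin 2) (Fin 2) F) 0 0, (h : Matrix (Fin 2) (Fin 2) F) 0 1;
           (h : Matrix (Fin 2) (Fin 2) F) 1 0, (h : Matrix (Fin 2) (Fin 2) F) 1 1] :=
    Matrix.eta_fin_two _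
  generalize (h : Matrix (Fin 2) (Fin 2) F) 0 0 = a at heta
  generalize (h : Matrix (Fin 2) (Fin 2) F) 0 1 = b at heta
  generalize (h : Matrix (Fin 2) (Fin 2) F) 1 0 = c at heta
  generalize (h : Matrix (Fin 2) (Fin 2) F) 1 1 = d at heta
  rw [heta, Matrix.det_fin_two_of] at hdet
  -- the upper unitriangular element
  have e1 : dAut h (X 1) = X (1 : F) := by rw [heq, fAut_X, map_one]
  unfold X at e1
  rw [dAut_pr, pr_eq_iff] at e1
  obtain ⟨r, -, e1⟩ := e1
  have e1' : (uSL (1 : F) : Matrix (Fin 2) (Fin 2) F) * (h : Matrix (Fin 2) (Fin 2) F)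
      = r • ((h : Matrix (Fin 2) (Fin 2) F) * (uSL (1 : F) : Matrix (Fin 2) (Fin 2) F)) := by
    conv_lhs => rw [e1, conjFun_coe, Matrix.smul_mul, Matrix.mul_assoc, hMi, Matrix.mul_one]
  rw [heta, uSL_coe, Matrix.mul_fin_two, Matrix.mul_fin_two, smul_mat2, mat2_eq_iff] at e1'
  obtain ⟨i1, i2, i3, i4⟩ := e1'
  -- the lower unitriangular element
  have e2 : dAut h (Y 1) = Y (1 : F) := by rw [heq, fAut_Y, map_one]
  unfold Y at e2
  rw [dAut_pr, pr_eq_iff] at e2
  obtain ⟨r', -, e2⟩ := e2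
  have e2' : (lSL (1 : F) : Matrix (Fin 2) (Fin 2) F) * (h : Matrix (Fin 2) (Fin 2) F)
      = r' • ((h : Matrix (Fin 2) (Fin 2) F) * (lSL (1 : F) : Matrix (Fin 2) (Fin 2) F)) := by
    conv_lhs => rw [e2, conjFun_coe, Matrix.smul_mul, Matrix.mul_assoc, hMi, Matrix.mul_one]
  rw [heta, lSL_coe, Matrix.mul_fin_two, Matrix.mul_fin_two, smul_mat2, mat2_eq_iff] at e2'
  obtain ⟨j1, j2, j3, j4⟩ := e2'
  have hr : r = 1 := by
    by_contra hr
    have hr' : 1 - r ≠ 0 := sub_ne_zero.mpr (Ne.symm hr)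
    have hc : c = 0 := by
      have : (1 - r) * c = 0 := by linear_combination i3
      exact (mul_eq_zero.mp this).resolve_left hr'
    have hd : d = 0 := by
      have : (1 - r) * d = 0 := by linear_combination i4 + r * hc
      exact (mul_eq_zero.mp this).resolve_left hr'
    apply hdet
    rw [hc, hd]
    ring
  have hr2 : r' = 1 := by
    by_contra hr
    have hr' : 1 - r' ≠ 0 := sub_ne_zero.mpr (Ne.symm hr)
    have hb : b = 0 := by
      have : (1 - r') * b = 0 := by linear_combination j2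
      exact (mul_eq_zero.mp this).resolve_left hr'
    have ha : a = 0 := by
      have : (1 - r') * a = 0 := by linear_combination j1 + r' * hb
      exact (mul_eq_zero.mp this).resolve_left hr'
    apply hdet
    rw [ha, hb]
    ring
  rw [hr] at i1 i2
  rw [hr2] at j1
  have hc : c = 0 := by linear_combination i1
  have hb : b = 0 := by linear_combination -j1
  have had : d = a := by linear_combination i2
  have hscal : (h : Matrix (Fin 2) (Fin 2) F) = a • (1 : Matrix (Fin 2) (Fin 2) F) := by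
    rw [heta, Matrix.one_fin_two, smul_mat2, mat2_eq_iff, hb, hc, had]
    refine ⟨by ring, by ring, by ring, by ring⟩
  have hD : dAut h = 1 := by
    apply MulEquiv.ext
    intro x
    obtain ⟨s, rfl⟩ := pr_surjective x
    rw [dAut_pr, MulAut.one_apply]
    congr 1
    apply Subtype.ext
    rw [conjFun_coe]
    have h3 : (h : Matrix (Fin 2) (Fin 2) F) * (s : Matrix (Fin 2) (Fin 2) F)
        = (s : Matrix (Fin 2) (Fin 2) F) * (h : Matrix (Fin 2) (Fin 2) F) := by
      rw [hscal, Matrix.smul_mul, Matrix.mul_smul, Matrix.one_mul, Matrix.mul_one]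
    rw [h3, Matrix.mul_assoc, hM, Matrix.mul_one]
  refine ⟨⟨a, hscal⟩, ?_⟩
  apply RingEquiv.ext
  intro t
  apply X_injective
  rw [← fAut_X, ← heq, hD]
  rfl

theorem dAut_eq_one (h : GL (Fin 2) F) (heq : dAut h = 1) :
    ∃ a : F, (h : Matrix (Fin 2) (Fin 2) F) = a • (1 : Matrix (Fin 2) (Fin 2) F) :=
  (dAut_eq_fAut h 1 (by rw [heq, map_one])).1

/-- the field automorphism in a decomposition `dAut g * fAut σ` is unique -/
theorem aut_unique (g g' : GL (Fin 2) F) (σ σ' : RingAut F)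
    (h : dAut g * fAut σ = dAut g' * fAut σ') : σ = σ' := by
  have h1 : dAut (g'⁻¹ * g) = fAut (σ' * σ⁻¹) := by
    rw [map_mul, map_mul, map_inv, map_inv, inv_mul_eq_iff_eq_mul, ← mul_assoc,
      eq_mul_inv_iff_mul_eq]
    exact h
  have h2 := (dAut_eq_fAut _ _ h1).2
  rw [mul_inv_eq_one] at h2
  exact h2.symm

end Unique

section Structure

variable {F : Type u} [Field F] [Fintype F]

/-- every element of a finite field is a difference of two squares -/
theorem exists_sq_sub_sq (a : F) : ∃ x y : F, a = x ^ 2 - y ^ 2 := by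
  by_cases h2 : (2 : F) = 0
  · haveI : CharP F 2 := CharTwo.of_one_ne_zero_of_two_eq_zero one_ne_zero h2
    obtain ⟨x, hx⟩ := FiniteField.isSquare_of_char_two (ringChar.eq F 2) a
    exact ⟨x, 0, by rw [hx]; ring⟩
  · refine ⟨(a + 1) / 2, (a - 1) / 2, ?_⟩
    field_simp
    ring

theorem aut_ext_XY (f g : MulAut (PSL2 F)) (hX : ∀ t, f (X t) = g (X t))
    (hY : ∀ t, f (Y t) = g (Y t)) : f = g := by
  have h := hom_ext_XY f.toMonoidHom g.toMonoidHom hX hY
  apply MulEquiv.ext
  intro x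
  exact DFunLike.congr_fun h x

/-- an automorphism stabilising the upper and the lower unitriangular subgroups is the composite
of a field automorphism and the conjugation by a diagonal matrix -/
theorem aut_of_stab (γ : MulAut (PSL2 F)) (hX : ∀ t : F, ∃ t' : F, γ (X t) = X t')
    (hY : ∀ s : F, ∃ s' : F, γ (Y s) = Y s') :
    ∃ (c : F) (hc : c ≠ 0) (σ : RingAut F), γ = dAut (dGL c hc) * fAut σ := by
  choose τ hτ using hX
  choose ρ hρ using hY
  have τ_add : ∀ a b, τ (a + b) = τ a + τ b := by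
    intro a b
    apply X_injective
    rw [← hτ, X_add, map_mul, hτ, hτ, X_add]
  have τ_inj : Function.Injective τ := by
    intro a b hab
    apply X_injective
    apply γ.injective
    rw [hτ, hτ, hab]
  have τ_zero : τ 0 = 0 := by
    have h := τ_add 0 0
    rw [add_zero] at h
    linear_combination -h
  have τ_ne : ∀ t, t ≠ 0 → τ t ≠ 0 := by
    intro t ht h0
    apply ht
    apply τ_inj
    rw [h0, τ_zero]
  have ρ_zero : ρ 0 = 0 := by
    apply Y_injective
    rw [← hρ, Y_zero, map_one]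
  have key1 : ∀ t, t ≠ 0 → ρ (-t⁻¹) = -(τ t)⁻¹ := by
    intro t ht
    have h1 : X t * Y (-t⁻¹) * X t = Y (-t⁻¹) * X t * Y (-t⁻¹) := by
      rw [braid_iff]
      left
      rw [mul_neg, mul_inv_cancel₀ ht]
    have h2 := congrArg γ h1
    rw [map_mul, map_mul, map_mul, map_mul, hτ, hρ, braid_iff] at h2
    rcases h2 with h2 | ⟨h2, -⟩
    · have h3 := τ_ne t ht
      have h4 : ρ (-t⁻¹) = (τ t)⁻¹ * (τ t * ρ (-t⁻¹)) := by
        rw [← mul_assoc, inv_mul_cancel₀ h3, one_mul]
      rw [h4, h2]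
      ring
    · exact absurd h2 (τ_ne t ht)
  have key2 : ∀ t, t ≠ 0 → γ (Wp t) = Wp (τ t) := by
    intro t ht
    unfold Wp
    rw [map_mul, map_mul, hτ, hρ, key1 t ht]
  set c := τ 1 with hc
  have hc0 : c ≠ 0 := τ_ne 1 one_ne_zero
  have key3 : ∀ l t, l ≠ 0 → τ (l ^ 2 * t) = (τ l / c) ^ 2 * τ t := by
    intro l t hl
    have h1 := conj_Wp l 1 hl one_ne_zero t
    have h2 := congrArg γ h1
    rw [map_mul, map_mul, map_inv, map_mul, map_inv, key2 l hl, key2 1 one_ne_zero, hτ, hτ,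
      conj_Wp (τ l) (τ 1) (τ_ne l hl) hc0 (τ t), div_one] at h2
    exact (X_injective h2).symm
  -- the field automorphism
  have σ_add : ∀ a b, τ (a + b) / c = τ a / c + τ b / c := by
    intro a b
    rw [τ_add, add_div]
  have σ_neg : ∀ a, τ (-a) = -τ a := by
    intro a
    have h := τ_add a (-a)
    rw [add_neg_cancel, τ_zero] at h
    linear_combination -h
  have σ_sub : ∀ a b, τ (a - b) = τ a - τ b := by
    intro a b
    rw [sub_eq_add_neg, τ_add, σ_neg]
    ring
  have σ_sq : ∀ l t, τ (l ^ 2 * t) / c = (τ l / c) ^ 2 * (τ t / c) := by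
    intro l t
    by_cases hl : l = 0
    · rw [hl, τ_zero]
      have : (0 : F) ^ 2 * t = 0 := by ring
      rw [this, τ_zero]
      ring
    · rw [key3 l t hl]
      ring
  have σ_one : τ 1 / c = 1 := div_self hc0
  have σ_mul : ∀ a b, τ (a * b) / c = τ a / c * (τ b / c) := by
    intro a b
    obtain ⟨x, y, rfl⟩ := exists_sq_sub_sq a
    have e1 : (x ^ 2 - y ^ 2) * b = x ^ 2 * b - y ^ 2 * b := by ring
    have e2 : x ^ 2 - y ^ 2 = x ^ 2 * 1 - y ^ 2 * 1 := by ring
    have h3 : τ ((x ^ 2 - y ^ 2) * b) / c = τ (x ^ 2 * b) / c - τ (y ^ 2 * b) / c := by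
      rw [e1, σ_sub, sub_div]
    have h4 : τ (x ^ 2 - y ^ 2) / c = τ (x ^ 2 * 1) / c - τ (y ^ 2 * 1) / c := by
      rw [e2, σ_sub, sub_div]
    rw [h3, h4, σ_sq, σ_sq, σ_sq, σ_sq, σ_one]
    ring
  let σR : F →+* F :=
    { toFun := fun t => τ t / c
      map_one' := σ_one
      map_mul' := σ_mul
      map_zero' := by rw [τ_zero, zero_div]
      map_add' := σ_add }
  have σR_apply : ∀ t, σR t = τ t / c := fun t => rfl
  have σR_bij : Function.Bijective σR :=
    ⟨σR.injective, Finite.injective_iff_surjective.mp σR.injective⟩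
  let σ : RingAut F := RingEquiv.ofBijective σR σR_bij
  have σ_apply : ∀ t, σ t = τ t / c := fun t => rfl
  refine ⟨c, hc0, σ, ?_⟩
  apply aut_ext_XY
  · intro t
    rw [MulAut.mul_apply, fAut_X, dAut_dGL_X, hτ, σ_apply, mul_div_cancel₀ _ hc0]
  · intro s
    rw [MulAut.mul_apply, fAut_Y, dAut_dGL_Y, hρ, σ_apply]
    by_cases hs : s = 0
    · rw [hs, ρ_zero, τ_zero, zero_div, zero_div]
    · have hs' : -s⁻¹ ≠ 0 := neg_ne_zero.mpr (inv_ne_zero hs)
      have h1 := key1 (-s⁻¹) hs'
      have e1 : -(-s⁻¹)⁻¹ = s := by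
        rw [inv_neg, inv_inv, neg_neg]
      rw [e1] at h1
      rw [h1]
      have h2 : τ (-s⁻¹) = -(c * (σR s)⁻¹) := by
        rw [σ_neg, ← map_inv₀, σR_apply, mul_div_cancel₀ _ hc0]
      rw [h2, σR_apply]
      have h5 : τ s ≠ 0 := τ_ne s hs
      field_simp

end Structure

end Cfsg.Agent.Helper44
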