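import Cfsg.Agent.Helper44.PSL2C

set_option autoImplicit false

/-!
Helper library (helper44): `Aut(PSL₂(F)) = PΓL₂(F)` for a finite field `F`: normalisation of an
automorphism by Sylow's theorem, the homomorphism `Aut(PSL₂(F)) → Aut(F)` and the description of
the inner automorphisms among the diagonal ones.
-/

namespace Cfsg.Agent.Helper44

open Matrix Cfsg.Agent.Helper5

open scoped Pointwise

universe u

section SylowNorm

variable {F : Type u} [Field F] [Fintype F]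

/-- the image of the upper unitriangular subgroup, a Sylow `p`-subgroup of `PSL₂(F)` -/
noncomputable def UP (p : ℕ) [Fact p.Prime] [CharP F p] : Sylow p (PSL2 F) := (sylowUSL p).mapSurjective pr_surjective

theorem mem_UP (p : ℕ) [Fact p.Prime] [CharP F p] (x : PSL2 F) :
    x ∈ ((UP p : Sylow p (PSL2 F)) : Subgroup (PSL2 F)) ↔ ∃ t : F, x = X t := by
  unfold UP
  rw [Sylow.coe_mapSurjective, sylowUSL_coe, Subgroup.mem_map]
  constructor
  · rintro ⟨s, hs, rfl⟩
    obtain ⟨t, rfl⟩ := (mem_USL_iff s).mp hs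
    exact ⟨t, rfl⟩
  · rintro ⟨t, rfl⟩
    exact ⟨uSL t, uSL_mem_USL t, rfl⟩

theorem mem_smul_UP (p : ℕ) [Fact p.Prime] [CharP F p] (g x : PSL2 F) :
    x ∈ ((g • UP p : Sylow p (PSL2 F)) : Subgroup (PSL2 F)) ↔ ∃ t : F, x = g * X t * g⁻¹ := by
  rw [Sylow.smul_def, Sylow.pointwise_smul_def, Subgroup.mem_smul_pointwise_iff_exists]
  constructor
  · rintro ⟨s, hs, rfl⟩
    obtain ⟨t, rfl⟩ := (mem_UP p s).mp hs
    exact ⟨t, rfl⟩
  · rintro ⟨t, rfl⟩
    exact ⟨X t, (mem_UP p _).mpr ⟨t, rfl⟩, rfl⟩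

theorem aut_smul_mem (p : ℕ) [Fact p.Prime] [CharP F p] (α : MulAut (PSL2 F)) (Q : Sylow p (PSL2 F)) (x : PSL2 F)
    (hx : x ∈ (Q : Subgroup (PSL2 F))) :
    α x ∈ ((α • Q : Sylow p (PSL2 F)) : Subgroup (PSL2 F)) := by
  rw [Sylow.pointwise_smul_def]
  exact Subgroup.smul_mem_pointwise_smul x α _ hx

/-- after an inner automorphism, an automorphism stabilises the upper unitriangular subgroup -/
theorem exists_conj_X (p : ℕ) [Fact p.Prime] [CharP F p] (α : MulAut (PSL2 F)) :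
    ∃ g : PSL2 F, ∀ t : F, ∃ t' : F, α (X t) = g * X t' * g⁻¹ := by
  obtain ⟨g, hg⟩ := MulAction.exists_smul_eq (PSL2 F) (UP p : Sylow p (PSL2 F))
    (α • (UP p : Sylow p (PSL2 F)))
  refine ⟨g, fun t => ?_⟩
  have h1 := aut_smul_mem p α (UP p) (X t) ((mem_UP p _).mpr ⟨t, rfl⟩)
  rw [← hg, mem_smul_UP] at h1
  exact h1

omit [Fintype F] in
theorem lSL_mul_wSL (s : F) : lSL s * wSL 1 = wSL 1 * uSL (-s) := by
  apply Subtype.ext
  rw [Matrix.SpecialLinearGroup.coe_mul, Matrix.SpecialLinearGroup.coe_mul,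
    wSL_coe 1 one_ne_zero, lSL_coe, uSL_coe, Matrix.mul_fin_two, Matrix.mul_fin_two, mat2_eq_iff]
  simp

/-- an automorphism stabilising the upper unitriangular subgroup maps the lower unitriangular
subgroup to a conjugate of it by an upper unitriangular element -/
theorem exists_conj_Y (p : ℕ) [Fact p.Prime] [CharP F p] (β : MulAut (PSL2 F)) (hβ : ∀ t : F, ∃ t' : F, β (X t) = X t') :
    ∃ u : F, ∀ s : F, ∃ s' : F, β (Y s) = X u * Y s' * (X u)⁻¹ := by
  have hsurj : ∀ y : F, ∃ t : F, β (X t) = X y := by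
    choose τ hτ using hβ
    have τ_inj : Function.Injective τ := by
      intro a b hab
      apply X_injective
      apply β.injective
      rw [hτ, hτ, hab]
    intro y
    obtain ⟨t₁, ht₁⟩ := (Finite.injective_iff_surjective.mp τ_inj) y
    exact ⟨t₁, by rw [hτ, ht₁]⟩
  obtain ⟨k, hk⟩ := MulAction.exists_smul_eq (PSL2 F) (UP p : Sylow p (PSL2 F))
    (β • (pr (wSL (1 : F)) • (UP p : Sylow p (PSL2 F))))
  have hY : ∀ s : F, ∃ y : F, β (Y s) = k * X y * k⁻¹ := by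
    intro s
    have h0 : Y s ∈ ((pr (wSL (1 : F)) • (UP p : Sylow p (PSL2 F)) : Sylow p (PSL2 F)) :
        Subgroup (PSL2 F)) := by
      rw [mem_smul_UP]
      refine ⟨-s, ?_⟩
      rw [eq_mul_inv_iff_mul_eq]
      unfold X Y
      rw [← map_mul, ← map_mul, lSL_mul_wSL]
    have h1 := aut_smul_mem p β _ (Y s) h0
    rw [← hk, mem_smul_UP] at h1
    exact h1
  obtain ⟨k', rfl⟩ := pr_surjective k
  by_cases hk0 : (k' : Matrix (Fin 2) (Fin 2) F) 1 0 = 0
  · exfalso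
    obtain ⟨y, hy⟩ := hY 1
    have h2 : β (Y 1) = X ((k' : Matrix (Fin 2) (Fin 2) F) 0 0 ^ 2 * y) := by
      rw [hy, mul_inv_eq_iff_eq_mul]
      unfold X
      rw [← map_mul, ← map_mul, sl_conj_of_lower_left_eq_zero hk0 y]
    obtain ⟨t₁, ht₁⟩ := hsurj ((k' : Matrix (Fin 2) (Fin 2) F) 0 0 ^ 2 * y)
    rw [← ht₁] at h2
    exact Y_ne_X 1 t₁ one_ne_zero (β.injective h2)
  · refine ⟨(k' : Matrix (Fin 2) (Fin 2) F) 0 0 / (k' : Matrix (Fin 2) (Fin 2) F) 1 0, fun s => ?_⟩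
    obtain ⟨y, hy⟩ := hY s
    refine ⟨-((k' : Matrix (Fin 2) (Fin 2) F) 1 0 ^ 2 * y), ?_⟩
    rw [hy]
    have h3 := lSL_eq_conj hk0 (-((k' : Matrix (Fin 2) (Fin 2) F) 1 0 ^ 2 * y))
    have e : -(-((k' : Matrix (Fin 2) (Fin 2) F) 1 0 ^ 2 * y))
        / (k' : Matrix (Fin 2) (Fin 2) F) 1 0 ^ 2 = y := by
      field_simp
    rw [e] at h3
    have h4 := congrArg pr h3
    rw [map_mul, map_mul, map_mul, map_mul, map_inv, map_inv] at h4
    have h5 : pr (uSL (-(k' : Matrix (Fin 2) (Fin 2) F) 0 0 / (k' : Matrix (Fin 2) (Fin 2) F) 1 0))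
        = (X ((k' : Matrix (Fin 2) (Fin 2) F) 0 0 / (k' : Matrix (Fin 2) (Fin 2) F) 1 0))⁻¹ := by
      rw [← X_neg, neg_div]
      rfl
    rw [h5] at h4
    have h6 : Y (-((k' : Matrix (Fin 2) (Fin 2) F) 1 0 ^ 2 * y))
        = (X ((k' : Matrix (Fin 2) (Fin 2) F) 0 0 / (k' : Matrix (Fin 2) (Fin 2) F) 1 0))⁻¹
          * (pr k' * X y * (pr k')⁻¹)
          * (X ((k' : Matrix (Fin 2) (Fin 2) F) 0 0 / (k' : Matrix (Fin 2) (Fin 2) F) 1 0))⁻¹⁻¹ :=
      h4
    rw [h6]
    group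

/-- every automorphism is, up to an inner automorphism, one stabilising the upper and the lower
unitriangular subgroups -/
theorem exists_normal_form (p : ℕ) [Fact p.Prime] [CharP F p] (α : MulAut (PSL2 F)) :
    ∃ (k : PSL2 F) (γ : MulAut (PSL2 F)), α = MulAut.conj k * γ
      ∧ (∀ t : F, ∃ t' : F, γ (X t) = X t') ∧ (∀ s : F, ∃ s' : F, γ (Y s) = Y s') := by
  obtain ⟨g, hg⟩ := exists_conj_X p α
  have hβ : ∀ t : F, ∃ t' : F, ((MulAut.conj g)⁻¹ * α) (X t) = X t' := by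
    intro t
    obtain ⟨t', ht'⟩ := hg t
    refine ⟨t', ?_⟩
    rw [MulAut.mul_apply, ht', MulAut.conj_inv_apply]
    group
  obtain ⟨u, hu⟩ := exists_conj_Y p _ hβ
  refine ⟨g * X u, (MulAut.conj (X u))⁻¹ * ((MulAut.conj g)⁻¹ * α), ?_, ?_, ?_⟩
  · rw [map_mul]
    group
  · intro t
    obtain ⟨t', ht'⟩ := hβ t
    refine ⟨t', ?_⟩
    rw [MulAut.mul_apply, ht', MulAut.conj_inv_apply, ← X_neg, ← X_add, ← X_add]
    congr 1
    ring
  · intro s
    obtain ⟨s', hs'⟩ := hu s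
    refine ⟨s', ?_⟩
    rw [MulAut.mul_apply, hs', MulAut.conj_inv_apply]
    group

/-- **`Aut(PSL₂(F)) = PΓL₂(F)`**: every automorphism of `PSL₂(F)` is the composite of a field
automorphism and the conjugation by an element of `GL₂(F)` -/
theorem aut_eq (p : ℕ) [Fact p.Prime] [CharP F p] (α : MulAut (PSL2 F)) :
    ∃ (g : GL (Fin 2) F) (σ : RingAut F), α = dAut g * fAut σ := by
  obtain ⟨k, γ, hα, hX, hY⟩ := exists_normal_form p α
  obtain ⟨c, hc, σ, hγ⟩ := aut_of_stab γ hX hY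
  obtain ⟨k', rfl⟩ := pr_surjective k
  refine ⟨Matrix.SpecialLinearGroup.toGL k' * dGL c hc, σ, ?_⟩
  rw [hα, hγ, conj_pr, map_mul, mul_assoc]

/-- the field automorphism attached to an automorphism of `PSL₂(F)` -/
noncomputable def galOf (p : ℕ) [Fact p.Prime] [CharP F p] (α : MulAut (PSL2 F)) : RingAut F := (aut_eq p α).choose_spec.choose

theorem galOf_spec (p : ℕ) [Fact p.Prime] [CharP F p] (α : MulAut (PSL2 F)) :
    ∃ g : GL (Fin 2) F, α = dAut g * fAut (galOf p α) :=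
  ⟨(aut_eq p α).choose, (aut_eq p α).choose_spec.choose_spec⟩

theorem galOf_eq (p : ℕ) [Fact p.Prime] [CharP F p] (α : MulAut (PSL2 F)) (g : GL (Fin 2) F) (σ : RingAut F)
    (h : α = dAut g * fAut σ) : galOf p α = σ := by
  obtain ⟨g', hg'⟩ := galOf_spec p α
  exact aut_unique g' g _ σ (hg'.symm.trans h)

/-- the homomorphism `Aut(PSL₂(F)) → Aut(F)` -/
noncomputable def galHom (p : ℕ) [Fact p.Prime] [CharP F p] : MulAut (PSL2 F) →* RingAut F where
  toFun := galOf p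
  map_one' := galOf_eq p 1 1 1 (by rw [map_one, map_one, one_mul])
  map_mul' α β := by
    obtain ⟨g, hg⟩ := galOf_spec p α
    obtain ⟨g', hg'⟩ := galOf_spec p β
    apply galOf_eq p (α * β) (g * Matrix.GeneralLinearGroup.map (galOf p α : F →+* F) g')
    rw [map_mul, map_mul]
    calc α * β = dAut g * fAut (galOf p α) * (dAut g' * fAut (galOf p β)) := by rw [← hg, ← hg']
      _ = dAut g * (fAut (galOf p α) * dAut g') * fAut (galOf p β) := by group
      _ = dAut g * (dAut (Matrix.GeneralLinearGroup.map (galOf p α : F →+* F) g')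
            * fAut (galOf p α)) * fAut (galOf p β) := by rw [fAut_mul_dAut]
      _ = dAut g * dAut (Matrix.GeneralLinearGroup.map (galOf p α : F →+* F) g')
            * (fAut (galOf p α) * fAut (galOf p β)) := by group

theorem galHom_fAut (p : ℕ) [Fact p.Prime] [CharP F p] (σ : RingAut F) : galHom p (fAut σ) = σ :=
  galOf_eq p _ 1 σ (by rw [map_one, one_mul])

theorem galHom_dAut (p : ℕ) [Fact p.Prime] [CharP F p] (g : GL (Fin 2) F) : galHom p (dAut g) = 1 :=
  galOf_eq p _ g 1 (by rw [map_one, mul_one])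

theorem galHom_conj (p : ℕ) [Fact p.Prime] [CharP F p] (x : PSL2 F) : galHom p (MulAut.conj x) = 1 := by
  obtain ⟨s, rfl⟩ := pr_surjective x
  rw [conj_pr]
  exact galHom_dAut p _

theorem exists_of_galHom_eq_one (p : ℕ) [Fact p.Prime] [CharP F p] (α : MulAut (PSL2 F)) (h : galHom p α = 1) :
    ∃ g : GL (Fin 2) F, α = dAut g := by
  obtain ⟨g, hg⟩ := galOf_spec p α
  refine ⟨g, ?_⟩
  have h1 : galOf p α = 1 := h
  rw [h1, map_one, mul_one] at hg
  exact hg

end SylowNorm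

section Inner

variable {F : Type u} [Field F]

/-- conjugation by a scalar matrix is trivial -/
theorem dAut_scalar (z : GL (Fin 2) F) (a : F)
    (hz : (z : Matrix (Fin 2) (Fin 2) F) = a • (1 : Matrix (Fin 2) (Fin 2) F)) : dAut z = 1 := by
  have hM : (z : Matrix (Fin 2) (Fin 2) F) * ((z⁻¹ : GL (Fin 2) F) : Matrix (Fin 2) (Fin 2) F)
      = 1 := by
    rw [← Units.val_mul, mul_inv_cancel, Units.val_one]
  apply MulEquiv.ext
  intro x
  obtain ⟨s, rfl⟩ := pr_surjective x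
  rw [dAut_pr, MulAut.one_apply]
  congr 1
  apply Subtype.ext
  rw [conjFun_coe]
  have h3 : (z : Matrix (Fin 2) (Fin 2) F) * (s : Matrix (Fin 2) (Fin 2) F)
      = (s : Matrix (Fin 2) (Fin 2) F) * (z : Matrix (Fin 2) (Fin 2) F) := by
    rw [hz, Matrix.smul_mul, Matrix.mul_smul, Matrix.one_mul, Matrix.mul_one]
  rw [h3, Matrix.mul_assoc, hM, Matrix.mul_one]

/-- a diagonal automorphism is inner iff the determinant of the matrix is a square -/
theorem dAut_inner_iff (g : GL (Fin 2) F) :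
    (∃ x : PSL2 F, MulAut.conj x = dAut g) ↔ IsSquare ((g : Matrix (Fin 2) (Fin 2) F).det) := by
  constructor
  · rintro ⟨x, hx⟩
    obtain ⟨s, rfl⟩ := pr_surjective x
    rw [conj_pr] at hx
    have h1 : dAut ((Matrix.SpecialLinearGroup.toGL s)⁻¹ * g) = 1 := by
      rw [map_mul, map_inv, hx, inv_mul_cancel]
    obtain ⟨a, ha⟩ := dAut_eq_one _ h1
    have h2 := congrArg Matrix.det ha
    rw [Units.val_mul, Matrix.det_mul, ← map_inv, Matrix.det_smul, Matrix.det_one, mul_one,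
      Fintype.card_fin] at h2
    have h3 : ((Matrix.SpecialLinearGroup.toGL s⁻¹ : GL (Fin 2) F) :
        Matrix (Fin 2) (Fin 2) F).det = 1 := (s⁻¹).2
    rw [h3, one_mul] at h2
    exact ⟨a, by rw [h2]; ring⟩
  · rintro ⟨a, ha⟩
    have hdet : (g : Matrix (Fin 2) (Fin 2) F).det ≠ 0 := by
      have h1 : IsUnit (g : Matrix (Fin 2) (Fin 2) F).det :=
        (Matrix.isUnit_iff_isUnit_det _).mp g.isUnit
      exact h1.ne_zero
    have ha0 : a ≠ 0 := by
      rintro rfl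
      rw [mul_zero] at ha
      exact hdet ha
    let s : SL2 F := ⟨a⁻¹ • (g : Matrix (Fin 2) (Fin 2) F), by
      rw [Matrix.det_smul, Fintype.card_fin, ha]
      field_simp⟩
    have hs : (g : Matrix (Fin 2) (Fin 2) F) = a • (s : Matrix (Fin 2) (Fin 2) F) := by
      show _ = a • (a⁻¹ • (g : Matrix (Fin 2) (Fin 2) F))
      rw [smul_smul, mul_inv_cancel₀ ha0, one_smul]
    have hz : ((g * (Matrix.SpecialLinearGroup.toGL s)⁻¹ : GL (Fin 2) F) :
        Matrix (Fin 2) (Fin 2) F) = a • (1 : Matrix (Fin 2) (Fin 2) F) := by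
      rw [Units.val_mul, ← map_inv]
      show (g : Matrix (Fin 2) (Fin 2) F) * ((s⁻¹ : SL2 F) : Matrix (Fin 2) (Fin 2) F) = _
      rw [hs, Matrix.smul_mul, ← Matrix.SpecialLinearGroup.coe_mul, mul_inv_cancel]
      rfl
    refine ⟨pr s, ?_⟩
    rw [conj_pr]
    have h4 : g = (g * (Matrix.SpecialLinearGroup.toGL s)⁻¹) * Matrix.SpecialLinearGroup.toGL s := by
      rw [inv_mul_cancel_right]
    conv_rhs => rw [h4, map_mul, dAut_scalar _ a hz, one_mul]

end Inner

end Cfsg.Agent.Helper44
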