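import Cfsg.Agent.Helper44.PSL2D
import Cfsg.Prelude.Def_KGroupFacts

set_option autoImplicit false

/-!
Helper library (helper44): the outer automorphism group of `PSL₂(F)`, `F` finite with `p ^ f`
elements: a surjection onto the cyclic group of order `f` with cyclic kernel of order
`gcd(2, p ^ f - 1)`.
-/

namespace Cfsg.Agent.Helper44

open Matrix Cfsg.Agent.Helper5

universe u

section Gal

variable {F : Type u} [Field F] [Fintype F]

theorem charP_of_card (p f : ℕ) [Fact p.Prime] (hF : Fintype.card F = p ^ f) : CharP F p := by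
  obtain ⟨q, hq⟩ := CharP.exists F
  haveI := hq
  obtain ⟨n, hqp, hn⟩ := FiniteField.card F q
  have hp : p.Prime := Fact.out
  have hf0 : f ≠ 0 := by
    rintro rfl
    rw [pow_zero] at hF
    have := Fintype.one_lt_card (α := F)
    omega
  have h1 : p ∣ q ^ (n : ℕ) := by
    rw [← hn, hF]
    exact dvd_pow_self p hf0
  have hpq : p = q := (Nat.prime_dvd_prime_iff_eq hp hqp).mp (hp.dvd_of_dvd_pow h1)
  rw [hpq]
  exact hq

/-- the group of field automorphisms of a finite field with `p ^ f` elements is cyclic of order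
`f` -/
theorem ringAut_cyclic_card (p f : ℕ) [Fact p.Prime] [CharP F p] (hF : Fintype.card F = p ^ f) :
    IsCyclic (RingAut F) ∧ Nat.card (RingAut F) = f := by
  letI : Algebra (ZMod p) F := ZMod.algebra F p
  let toRA : (F ≃ₐ[ZMod p] F) →* RingAut F :=
    { toFun := fun e => e.toRingEquiv
      map_one' := rfl
      map_mul' := fun _ _ => rfl }
  have hbij : Function.Bijective toRA := by
    constructor
    · intro e₁ e₂ h
      apply AlgEquiv.ext
      intro x
      exact DFunLike.congr_fun h x
    · intro σ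
      refine ⟨AlgEquiv.ofRingEquiv (f := σ) ?_, ?_⟩
      · intro r
        have h1 : ((σ : F →+* F).comp (algebraMap (ZMod p) F)) = algebraMap (ZMod p) F :=
          Subsingleton.elim _ _
        exact DFunLike.congr_fun h1 r
      · apply RingEquiv.ext
        intro x
        rfl
  constructor
  · exact isCyclic_of_surjective toRA hbij.2
  · rw [← Nat.card_congr (Equiv.ofBijective toRA hbij), IsGalois.card_aut_eq_finrank]
    have h1 : Fintype.card F = Fintype.card (ZMod p) ^ Module.finrank (ZMod p) F :=
      Module.card_eq_pow_finrank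
    rw [ZMod.card, hF] at h1
    exact (Nat.pow_right_injective (Fact.out : p.Prime).two_le h1).symm

/-- in a finite field of odd characteristic the product of two non-squares is a square -/
theorem isSquare_mul_of_not_isSquare (hF : ringChar F ≠ 2) {a b : F} (ha : ¬ IsSquare a)
    (hb : ¬ IsSquare b) : IsSquare (a * b) := by
  have ha0 : a ≠ 0 := by
    rintro rfl
    exact ha ⟨0, by ring⟩
  have hb0 : b ≠ 0 := by
    rintro rfl
    exact hb ⟨0, by ring⟩
  rw [FiniteField.isSquare_iff hF (mul_ne_zero ha0 hb0), mul_pow]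
  rw [FiniteField.isSquare_iff hF ha0] at ha
  rw [FiniteField.isSquare_iff hF hb0] at hb
  rcases FiniteField.pow_dichotomy hF ha0 with h | h
  · exact absurd h ha
  · rcases FiniteField.pow_dichotomy hF hb0 with h' | h'
    · exact absurd h' hb
    · rw [h, h']
      ring

end Gal

section OutPSL2

variable {F : Type u} [Field F] [Fintype F]

/-- **the outer automorphism group of `PSL₂(q)`**, `q = p ^ f`: it maps onto the cyclic group of
order `f` with cyclic kernel of order `gcd(2, q - 1)` -/
theorem out_psl2 (p f : ℕ) [Fact p.Prime] (hF : Fintype.card F = p ^ f) :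
    ∃ φ : Cfsg.Out (PSL2 F) →* Multiplicative (ZMod f), Function.Surjective φ ∧ IsCyclic φ.ker
      ∧ Nat.card φ.ker = Nat.gcd 2 (p ^ f - 1) := by
  haveI : CharP F p := charP_of_card p f hF
  have hp : p.Prime := Fact.out
  obtain ⟨hcyc, hcard⟩ := ringAut_cyclic_card p f hF
  subst hcard
  have hf0 : Nat.card (RingAut F) ≠ 0 := by
    intro h0
    rw [h0, pow_zero] at hF
    have := Fintype.one_lt_card (α := F)
    omega
  let e : RingAut F ≃* Multiplicative (ZMod (Nat.card (RingAut F))) :=
    (zmodCyclicMulEquiv hcyc).symm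
  let Ψ : Cfsg.Out (PSL2 F) →* RingAut F :=
    QuotientGroup.lift (Cfsg.Inn (PSL2 F)) (galHom p) (by
      rintro _ ⟨x, rfl⟩
      exact MonoidHom.mem_ker.mpr (galHom_conj p x))
  have hΨ : ∀ α : MulAut (PSL2 F), Ψ (QuotientGroup.mk α) = galHom p α := fun α => rfl
  refine ⟨e.toMonoidHom.comp Ψ, ?_, ?_⟩
  · intro y
    refine ⟨QuotientGroup.mk (fAut (e.symm y)), ?_⟩
    show e (Ψ _) = y
    rw [hΨ, galHom_fAut, MulEquiv.apply_symm_apply]
  · have hker : (e.toMonoidHom.comp Ψ).ker = Ψ.ker := by
      ext x
      rw [MonoidHom.mem_ker, MonoidHom.mem_ker]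
      show e (Ψ x) = 1 ↔ Ψ x = 1
      rw [MulEquiv.map_eq_one_iff]
    rw [hker]
    have hmem : ∀ x : Cfsg.Out (PSL2 F),
        x ∈ Ψ.ker ↔ ∃ g : GL (Fin 2) F, x = QuotientGroup.mk (dAut g) := by
      intro x
      constructor
      · intro hx
        obtain ⟨α, rfl⟩ := QuotientGroup.mk_surjective x
        rw [MonoidHom.mem_ker, hΨ] at hx
        obtain ⟨g, hg⟩ := exists_of_galHom_eq_one p α hx
        exact ⟨g, by rw [hg]⟩
      · rintro ⟨g, rfl⟩
        rw [MonoidHom.mem_ker, hΨ, galHom_dAut]
    have hone : ∀ g : GL (Fin 2) F, (QuotientGroup.mk (dAut g) : Cfsg.Out (PSL2 F)) = 1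
        ↔ IsSquare ((g : Matrix (Fin 2) (Fin 2) F).det) := by
      intro g
      rw [QuotientGroup.eq_one_iff, ← dAut_inner_iff]
      constructor
      · rintro ⟨x, hx⟩
        exact ⟨x, hx⟩
      · rintro ⟨x, hx⟩
        exact ⟨x, hx⟩
    by_cases h2 : (2 : F) = 0
    · -- characteristic two: every diagonal automorphism is inner
      have hp2 : p = 2 := by
        have h3 : ((2 : ℕ) : F) = 0 := by exact_mod_cast h2
        rw [CharP.cast_eq_zero_iff F p 2] at h3
        exact (Nat.prime_dvd_prime_iff_eq hp Nat.prime_two).mp h3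
      haveI : CharP F 2 := CharTwo.of_one_ne_zero_of_two_eq_zero one_ne_zero h2
      have hbot : Ψ.ker = ⊥ := by
        rw [eq_bot_iff]
        intro x hx
        obtain ⟨g, rfl⟩ := (hmem x).mp hx
        rw [Subgroup.mem_bot, hone]
        exact FiniteField.isSquare_of_char_two (ringChar.eq F 2) _
      rw [hbot, hp2]
      refine ⟨isCyclic_of_subsingleton, ?_⟩
      rw [Subgroup.card_bot]
      obtain ⟨k, hk⟩ := dvd_pow_self 2 hf0
      rw [hk]
      have hk0 : 0 < k := by
        rcases Nat.eq_zero_or_pos k with h | h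
        · rw [h, mul_zero] at hk
          exact absurd hk (pow_ne_zero _ (by norm_num))
        · exact h
      have hodd : Odd (2 * k - 1) := ⟨k - 1, by omega⟩
      exact Eq.symm (Nat.coprime_two_left.mpr hodd)
    · -- odd characteristic: the diagonal automorphisms modulo inner ones have order two
      have hchar : ringChar F ≠ 2 := by
        intro h
        apply h2
        have h3 : ((ringChar F : ℕ) : F) = 0 := ringChar.Nat.cast_ringChar
        rw [h] at h3
        exact_mod_cast h3
      obtain ⟨ε, hε⟩ := FiniteField.exists_nonsquare hchar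
      have hε0 : ε ≠ 0 := by
        rintro rfl
        exact hε ⟨0, by ring⟩
      have hεi : ¬ IsSquare ε⁻¹ := by
        rintro ⟨c, hc⟩
        apply hε
        refine ⟨c⁻¹, ?_⟩
        rw [← mul_inv, ← hc, inv_inv]
      have hdd : ((dGL ε hε0 : GL (Fin 2) F) : Matrix (Fin 2) (Fin 2) F).det = ε := by
        show (!![ε, 0; 0, 1] : Matrix (Fin 2) (Fin 2) F).det = ε
        rw [Matrix.det_fin_two_of]
        ring
      have hddi : (((dGL ε hε0)⁻¹ : GL (Fin 2) F) : Matrix (Fin 2) (Fin 2) F).det = ε⁻¹ := by
        show (!![ε⁻¹, 0; 0, 1] : Matrix (Fin 2) (Fin 2) F).det = ε⁻¹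
        rw [Matrix.det_fin_two_of]
        ring
      have hx₀ : (QuotientGroup.mk (dAut (dGL ε hε0)) : Cfsg.Out (PSL2 F)) ≠ 1 := by
        rw [Ne, hone, hdd]
        exact hε
      have hset : (Ψ.ker : Set (Cfsg.Out (PSL2 F)))
          = {1, (QuotientGroup.mk (dAut (dGL ε hε0)) : Cfsg.Out (PSL2 F))} := by
        ext x
        simp only [SetLike.mem_coe, Set.mem_insert_iff, Set.mem_singleton_iff]
        constructor
        · intro hx
          obtain ⟨g, rfl⟩ := (hmem x).mp hx
          by_cases hsq : IsSquare ((g : Matrix (Fin 2) (Fin 2) F).det)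
          · left
            exact (hone g).mpr hsq
          · right
            have h3 : (QuotientGroup.mk (dAut ((dGL ε hε0)⁻¹ * g)) : Cfsg.Out (PSL2 F)) = 1 := by
              rw [hone, Units.val_mul, Matrix.det_mul, hddi]
              exact isSquare_mul_of_not_isSquare hchar hεi hsq
            rw [map_mul, map_inv, QuotientGroup.mk_mul, QuotientGroup.mk_inv,
              inv_mul_eq_one] at h3
            exact h3.symm
        · rintro (rfl | rfl)
          · exact one_mem _
          · exact (hmem _).mpr ⟨_, rfl⟩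
      have hcard2 : Nat.card ↥Ψ.ker = 2 := by
        rw [← SetLike.coe_sort_coe, Nat.card_coe_set_eq, hset, Set.ncard_pair (Ne.symm hx₀)]
      refine ⟨isCyclic_of_prime_card (p := 2) hcard2, ?_⟩
      rw [hcard2]
      have hp2 : p ≠ 2 := by
        rintro rfl
        apply h2
        have h3 := CharP.cast_eq_zero F 2
        exact_mod_cast h3
      have hodd : Odd p := hp.odd_of_ne_two hp2
      have hodd' : Odd (p ^ Nat.card (RingAut F)) := hodd.pow
      have heven : Even (p ^ Nat.card (RingAut F) - 1) := Nat.Odd.sub_odd hodd' odd_one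
      exact (Nat.gcd_eq_left (even_iff_two_dvd.mp heven)).symm

end OutPSL2

end Cfsg.Agent.Helper44
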