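import Cfsg.Agent.Helper44.PSLnC

set_option autoImplicit false

/-!
Helper library (helper44): every transvection of `SL_n(F)` is conjugate in `SL_n(F)` to an
elementary transvection in position `(first, last)`; hence, for a finite field `F`, every
automorphism of `PSL_n(F)` maps images of transvections to images of transvections
(`pres_all`).
-/

namespace Cfsg.Agent.Helper44.PSLn

open Matrix

open scoped Pointwise

universe u

section Conj

variable {n : ℕ} {F : Type u} [Field F]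

theorem conjFun_toGL (k s : SLn n F) :
    conjFun (Matrix.SpecialLinearGroup.toGL k) s = k * s * k⁻¹ := by
  apply Subtype.ext
  rw [conjFun_coe, ← map_inv]
  rfl

theorem conj_tvS (k : SLn n F) (v φ : Fin n → F) (h : φ ⬝ᵥ v = 0) :
    ∃ h' : (φ ᵥ* ((k⁻¹ : SLn n F) : Mn n F)) ⬝ᵥ ((k : Mn n F) *ᵥ v) = 0,
      k * tvS v φ h * k⁻¹
        = tvS ((k : Mn n F) *ᵥ v) (φ ᵥ* ((k⁻¹ : SLn n F) : Mn n F)) h' := by
  have h1 := conjFun_tvS (Matrix.SpecialLinearGroup.toGL k) v φ h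
  rw [conjFun_toGL] at h1
  have h2 : (((Matrix.SpecialLinearGroup.toGL k)⁻¹ : GL (Fin n) F) : Mn n F)
      = ((k⁻¹ : SLn n F) : Mn n F) := by
    rw [← map_inv]
    rfl
  have h3 : ((Matrix.SpecialLinearGroup.toGL k : GL (Fin n) F) : Mn n F) = (k : Mn n F) := rfl
  have h' : (φ ᵥ* ((k⁻¹ : SLn n F) : Mn n F)) ⬝ᵥ ((k : Mn n F) *ᵥ v) = 0 := by
    rw [← dotProduct_mulVec, mulVec_mulVec, ← Matrix.SpecialLinearGroup.coe_mul, inv_mul_cancel,
      Matrix.SpecialLinearGroup.coe_one, one_mulVec, h]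
  refine ⟨h', ?_⟩
  rw [h1]
  exact tvS_congr (by rw [h3]) (by rw [h2]) _ _

theorem tvM_vecMul (w ψ φ : Fin n → F) : φ ᵥ* tvM w ψ = φ + (φ ⬝ᵥ w) • ψ := by
  unfold tvM
  rw [vecMul_add, vecMul_one, vecMul_vecMulVec]

theorem tvM_mul_neg (w ψ : Fin n → F) (hk : ψ ⬝ᵥ w = 0) : tvM w ψ * tvM w (-ψ) = 1 := by
  rw [tvM_mul, hk, zero_smul, vecMulVec_zero, add_zero, vecMulVec_neg, add_assoc,
    add_neg_cancel, add_zero]

theorem tvM_neg_mul (w ψ : Fin n → F) (hk : ψ ⬝ᵥ w = 0) : tvM w (-ψ) * tvM w ψ = 1 := by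
  have h := tvM_mul_neg w (-ψ) (by rw [neg_dotProduct, hk, neg_zero])
  rwa [neg_neg] at h

theorem tvM_conj (w ψ v φ : Fin n → F) (hk : ψ ⬝ᵥ w = 0) :
    tvM w ψ * tvM v φ * tvM w (-ψ) = tvM (v + (ψ ⬝ᵥ v) • w) (φ - (φ ⬝ᵥ w) • ψ) := by
  have h1 : tvM w ψ * tvM v φ * tvM w (-ψ)
      = tvM w ψ * tvM w (-ψ) + vecMulVec (tvM w ψ *ᵥ v) (φ ᵥ* tvM w (-ψ)) := by
    conv_lhs => rw [show tvM v φ = 1 + vecMulVec v φ from rfl]
    rw [mul_add, add_mul, mul_one, mul_vecMulVec, vecMulVec_mul]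
  rw [h1, tvM_mul_neg w ψ hk, tvM_mulVec, tvM_vecMul, smul_neg, ← sub_eq_add_neg]
  rfl

theorem dot_conj (w ψ v φ : Fin n → F) (hk : ψ ⬝ᵥ w = 0) :
    (φ - (φ ⬝ᵥ w) • ψ) ⬝ᵥ (v + (ψ ⬝ᵥ v) • w) = φ ⬝ᵥ v := by
  rw [sub_dotProduct, dotProduct_add, dotProduct_add, smul_dotProduct, smul_dotProduct,
    dotProduct_smul, dotProduct_smul, hk]
  simp only [smul_eq_mul]
  ring

/-- matrices conjugate under `SL_n(F)` to an elementary transvection in position `(i0, il)` -/
def RootConjM (i0 il : Fin n) (hne : i0 ≠ il) (M : Mn n F) : Prop :=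
  ∃ (s : SLn n F) (a : F),
    M = (s : Mn n F) * (Matrix.SpecialLinearGroup.transvection hne a : Mn n F)
      * ((s⁻¹ : SLn n F) : Mn n F)

theorem rootConjM_one (i0 il : Fin n) (hne : i0 ≠ il) : RootConjM i0 il hne (1 : Mn n F) := by
  refine ⟨1, 0, ?_⟩
  rw [Matrix.SpecialLinearGroup.transvection_coeff_zero, inv_one,
    Matrix.SpecialLinearGroup.coe_one, mul_one, mul_one]

theorem rootConjM_step (i0 il : Fin n) (hne : i0 ≠ il) (w ψ : Fin n → F) (hk : ψ ⬝ᵥ w = 0)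
    (v φ : Fin n → F)
    (H : RootConjM i0 il hne (tvM (v + (ψ ⬝ᵥ v) • w) (φ - (φ ⬝ᵥ w) • ψ))) :
    RootConjM i0 il hne (tvM v φ) := by
  obtain ⟨s, a, hs⟩ := H
  rw [← tvM_conj w ψ v φ hk] at hs
  have hk' : (-ψ) ⬝ᵥ w = 0 := by rw [neg_dotProduct, hk, neg_zero]
  refine ⟨tvS w (-ψ) hk' * s, a, ?_⟩
  have h1 : ((tvS w (-ψ) hk' * s)⁻¹ : SLn n F) = s⁻¹ * tvS w ψ hk := by
    rw [_root_.mul_inv_rev, tvS_inv]
    congr 1
    exact tvS_congr rfl (neg_neg ψ) _ _
  rw [h1, Matrix.SpecialLinearGroup.coe_mul, Matrix.SpecialLinearGroup.coe_mul, tvS_coe, tvS_coe]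
  have h2 : tvM v φ = tvM w (-ψ) * (tvM w ψ * tvM v φ * tvM w (-ψ)) * tvM w ψ := by
    have e : tvM w (-ψ) * (tvM w ψ * tvM v φ * tvM w (-ψ)) * tvM w ψ
        = (tvM w (-ψ) * tvM w ψ) * tvM v φ * (tvM w (-ψ) * tvM w ψ) := by
      simp only [mul_assoc]
    rw [e, tvM_neg_mul w ψ hk, one_mul, mul_one]
  rw [h2, hs]
  simp only [mul_assoc]

theorem rootConjM_base (i0 il : Fin n) (hne : i0 ≠ il) (c : F) :
    RootConjM i0 il hne (tvM (Pi.single i0 (1 : F)) (c • (Pi.single il 1 : Fin n → F))) := by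
  refine ⟨1, c, ?_⟩
  rw [inv_one, Matrix.SpecialLinearGroup.coe_one, mul_one, one_mul, transvection_eq_tvS, tvS_coe]
  ext k l
  rw [tvM_apply, tvM_apply, Pi.smul_apply, smul_eq_mul]
  congr 1
  by_cases hk : k = i0
  · subst hk
    simp
  · rw [Pi.single_eq_of_ne hk, Pi.single_eq_of_ne hk, zero_mul, zero_mul]

theorem rootConjM_st3 (i0 il : Fin n) (hne : i0 ≠ il) (φ : Fin n → F) (h0 : φ i0 = 0)
    (hl : φ il ≠ 0) : RootConjM i0 il hne (tvM (Pi.single i0 (1 : F)) φ) := by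
  have hk : ((φ il)⁻¹ • φ - Pi.single il 1) ⬝ᵥ (Pi.single il 1 : Fin n → F) = 0 := by
    rw [dotProduct_single, mul_one, Pi.sub_apply, Pi.smul_apply, smul_eq_mul,
      inv_mul_cancel₀ hl, Pi.single_eq_same, sub_self]
  apply rootConjM_step i0 il hne (Pi.single il 1) ((φ il)⁻¹ • φ - Pi.single il 1) hk
  have e1 : (Pi.single i0 1 : Fin n → F)
      + (((φ il)⁻¹ • φ - Pi.single il 1) ⬝ᵥ (Pi.single i0 1 : Fin n → F)) • Pi.single il 1
      = Pi.single i0 1 := by
    rw [dotProduct_single, mul_one, Pi.sub_apply, Pi.smul_apply, smul_eq_mul, h0, mul_zero,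
      Pi.single_eq_of_ne hne, sub_zero, zero_smul, add_zero]
  have e2 : φ - (φ ⬝ᵥ (Pi.single il 1 : Fin n → F)) • ((φ il)⁻¹ • φ - Pi.single il 1)
      = φ il • Pi.single il 1 := by
    rw [dotProduct_single, mul_one]
    ext k
    simp only [Pi.sub_apply, Pi.smul_apply, smul_eq_mul]
    field_simp
    ring
  rw [e1, e2]
  exact rootConjM_base i0 il hne (φ il)

theorem rootConjM_st2 (i0 il : Fin n) (hne : i0 ≠ il) (φ : Fin n → F) (h0 : φ i0 = 0) :
    RootConjM i0 il hne (tvM (Pi.single i0 (1 : F)) φ) := by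
  by_cases hl : φ il = 0
  · by_cases hφ : φ = 0
    · subst hφ
      unfold tvM
      rw [vecMulVec_zero, add_zero]
      exact rootConjM_one i0 il hne
    · obtain ⟨j, hj⟩ := Function.ne_iff.mp hφ
      rw [Pi.zero_apply] at hj
      have hj0 : j ≠ i0 := by
        rintro rfl
        exact hj h0
      have hjl : j ≠ il := by
        rintro rfl
        exact hj hl
      have hk : (-(Pi.single il 1 : Fin n → F)) ⬝ᵥ (Pi.single j 1 : Fin n → F) = 0 := by
        rw [dotProduct_single, mul_one, Pi.neg_apply, Pi.single_eq_of_ne hjl, neg_zero]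
      apply rootConjM_step i0 il hne (Pi.single j 1) (-(Pi.single il 1)) hk
      have e1 : (Pi.single i0 1 : Fin n → F)
          + ((-(Pi.single il 1 : Fin n → F)) ⬝ᵥ (Pi.single i0 1 : Fin n → F)) • Pi.single j 1
          = Pi.single i0 1 := by
        rw [dotProduct_single, mul_one, Pi.neg_apply, Pi.single_eq_of_ne hne, neg_zero, zero_smul,
          add_zero]
      rw [e1]
      apply rootConjM_st3 i0 il hne
      · rw [Pi.sub_apply, Pi.smul_apply, Pi.neg_apply, Pi.single_eq_of_ne hne, h0, neg_zero,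
          smul_zero, sub_zero]
      · rw [Pi.sub_apply, Pi.smul_apply, Pi.neg_apply, Pi.single_eq_same, hl, dotProduct_single,
          mul_one, smul_eq_mul, mul_neg, mul_one, zero_sub, neg_neg]
        exact hj
  · exact rootConjM_st3 i0 il hne φ h0 hl

theorem rootConjM_st1 (i0 il : Fin n) (hne : i0 ≠ il) (v φ : Fin n → F) (h : φ ⬝ᵥ v = 0)
    (hv : v i0 ≠ 0) : RootConjM i0 il hne (tvM v φ) := by
  have hk : (Pi.single i0 1 : Fin n → F) ⬝ᵥ (Pi.single i0 1 - (v i0)⁻¹ • v) = 0 := by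
    rw [single_dotProduct, one_mul, Pi.sub_apply, Pi.smul_apply, smul_eq_mul,
      inv_mul_cancel₀ hv, Pi.single_eq_same, sub_self]
  apply rootConjM_step i0 il hne (Pi.single i0 1 - (v i0)⁻¹ • v) (Pi.single i0 1) hk
  have e1 : v + ((Pi.single i0 1 : Fin n → F) ⬝ᵥ v) • (Pi.single i0 1 - (v i0)⁻¹ • v)
      = v i0 • Pi.single i0 1 := by
    rw [single_dotProduct, one_mul]
    ext k
    simp only [Pi.add_apply, Pi.sub_apply, Pi.smul_apply, smul_eq_mul]
    field_simp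
    ring
  rw [e1]
  set φ' := φ - (φ ⬝ᵥ (Pi.single i0 1 - (v i0)⁻¹ • v)) • (Pi.single i0 1 : Fin n → F) with hφ'
  have h0 : φ' i0 = 0 := by
    have h1 := dot_conj (Pi.single i0 1 - (v i0)⁻¹ • v) (Pi.single i0 1) v φ hk
    rw [e1, ← hφ', h, dotProduct_smul, dotProduct_single, mul_one, smul_eq_mul] at h1
    rcases mul_eq_zero.mp h1 with h2 | h2
    · exact absurd h2 hv
    · exact h2
  have e2 : tvM (v i0 • (Pi.single i0 1 : Fin n → F)) φ' = tvM (Pi.single i0 1) (v i0 • φ') := by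
    ext k l
    rw [tvM_apply, tvM_apply, Pi.smul_apply, Pi.smul_apply, smul_eq_mul, smul_eq_mul]
    ring
  rw [e2]
  apply rootConjM_st2 i0 il hne
  rw [Pi.smul_apply, h0, smul_zero]

/-- every transvection is conjugate in `SL_n(F)` to an elementary transvection in a given
position -/
theorem rootConjM_tvM (i0 il : Fin n) (hne : i0 ≠ il) (v φ : Fin n → F) (h : φ ⬝ᵥ v = 0) :
    RootConjM i0 il hne (tvM v φ) := by
  by_cases hv0 : v i0 = 0
  · by_cases hv : v = 0
    · subst hv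
      unfold tvM
      rw [zero_vecMulVec, add_zero]
      exact rootConjM_one i0 il hne
    · obtain ⟨j, hj⟩ := Function.ne_iff.mp hv
      rw [Pi.zero_apply] at hj
      have hj0 : j ≠ i0 := by
        rintro rfl
        exact hj hv0
      have hk : (Pi.single j 1 : Fin n → F) ⬝ᵥ (Pi.single i0 1 : Fin n → F) = 0 := by
        rw [dotProduct_single, mul_one, Pi.single_eq_of_ne (Ne.symm hj0)]
      apply rootConjM_step i0 il hne (Pi.single i0 1) (Pi.single j 1) hk
      apply rootConjM_st1 i0 il hne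
      · rw [dot_conj _ _ _ _ hk, h]
      · rw [Pi.add_apply, Pi.smul_apply, Pi.single_eq_same, hv0, single_dotProduct, one_mul,
          smul_eq_mul, mul_one, zero_add]
        exact hj
  · exact rootConjM_st1 i0 il hne v φ h hv0

theorem exists_conj_transvection (i0 il : Fin n) (hne : i0 ≠ il) (v φ : Fin n → F)
    (h : φ ⬝ᵥ v = 0) :
    ∃ (s : SLn n F) (a : F),
      tvS v φ h = s * Matrix.SpecialLinearGroup.transvection hne a * s⁻¹ := by
  obtain ⟨s, a, hs⟩ := rootConjM_tvM i0 il hne v φ h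
  exact ⟨s, a, Subtype.ext hs⟩

theorem transvection_central [Finite F] (i0 il : Fin n) (h0 : ∀ i, i0 ≤ i) (hl : ∀ i, i ≤ il)
    (hne : i0 ≠ il) (a : F) (u : SLn n F) (hu : u ∈ UniS n F) :
    Matrix.SpecialLinearGroup.transvection hne a * u
      = u * Matrix.SpecialLinearGroup.transvection hne a := by
  apply Subtype.ext
  rw [Matrix.SpecialLinearGroup.coe_mul, Matrix.SpecialLinearGroup.coe_mul,
    Matrix.SpecialLinearGroup.transvection_coe, mul_add, add_mul, mul_one, one_mul,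
    add_right_inj]
  ext k l
  by_cases hk : k = i0
  · subst hk
    rw [Matrix.single_mul_apply_same]
    by_cases hl' : l = il
    · subst hl'
      rw [Matrix.mul_single_apply_same, hu.2, hu.2, mul_one, one_mul]
    · rw [Matrix.mul_single_apply_of_ne _ _ _ _ _ hl',
        hu.1 il l (lt_of_le_of_ne (hl l) hl'), mul_zero]
  · rw [Matrix.single_mul_apply_of_ne _ _ _ _ _ hk]
    by_cases hl' : l = il
    · subst hl'
      rw [Matrix.mul_single_apply_same, hu.1 k i0 (lt_of_le_of_ne (h0 k) (Ne.symm hk)), zero_mul]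
    · rw [Matrix.mul_single_apply_of_ne _ _ _ _ _ hl']

end Conj

section SylowLemmas

variable {G : Type*} [Group G]

theorem sylow_mem_smul_iff {p : ℕ} (g x : G) (P : Sylow p G) :
    x ∈ ((g • P : Sylow p G) : Subgroup G) ↔ ∃ s ∈ (P : Subgroup G), x = g * s * g⁻¹ := by
  rw [Sylow.smul_def, Sylow.pointwise_smul_def, Subgroup.mem_smul_pointwise_iff_exists]
  constructor
  · rintro ⟨s, hs, rfl⟩
    exact ⟨s, hs, rfl⟩
  · rintro ⟨s, hs, rfl⟩
    exact ⟨s, hs, rfl⟩

theorem sylow_mem_aut_smul_iff {p : ℕ} (α : MulAut G) (x : G) (P : Sylow p G) :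
    x ∈ ((α • P : Sylow p G) : Subgroup G) ↔ ∃ s ∈ (P : Subgroup G), x = α s := by
  rw [Sylow.pointwise_smul_def, Subgroup.mem_smul_pointwise_iff_exists]
  constructor
  · rintro ⟨s, hs, rfl⟩
    exact ⟨s, hs, rfl⟩
  · rintro ⟨s, hs, rfl⟩
    exact ⟨s, hs, rfl⟩

end SylowLemmas

section Pres

variable {n : ℕ} {F : Type u} [Field F] [Fintype F]

/-- **every automorphism of `PSL_n(F)` permutes the images of the transvections** -/
theorem pres_all (p f : ℕ) [Fact p.Prime] (hF : Fintype.card F = p ^ f) (hf : 1 ≤ f)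
    (hn : 3 ≤ n) (α : MulAut (PSLn n F)) (v φ : Fin n → F) (h : φ ⬝ᵥ v = 0) :
    ∃ (v' φ' : Fin n → F) (h' : φ' ⬝ᵥ v' = 0), α (prn (tvS v φ h)) = prn (tvS v' φ' h') := by
  let i0 : Fin n := ⟨0, by omega⟩
  let il : Fin n := ⟨n - 1, by omega⟩
  have h0 : ∀ i : Fin n, i0 ≤ i := fun i => Fin.mk_le_of_le_val (Nat.zero_le _)
  have hl : ∀ i : Fin n, i ≤ il := fun i => by
    have := i.2
    exact Fin.le_def.mpr (by show (i : ℕ) ≤ n - 1; omega)
  have hne : i0 ≠ il := by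
    intro h1
    have := congrArg Fin.val h1
    simp only [i0, il] at this
    omega
  have hlt : i0 < il := lt_of_le_of_ne (h0 il) hne
  let P₀ : Sylow p (PSLn n F) := (uniSyl p f hF hf (by omega)).mapSurjective prn_surjective
  have hP₀ : ∀ x : PSLn n F, x ∈ (P₀ : Subgroup (PSLn n F)) ↔ ∃ u ∈ UniS n F, x = prn u := by
    intro x
    rw [Sylow.coe_mapSurjective, uniSyl_coe, Subgroup.mem_map]
    constructor
    · rintro ⟨u, hu, rfl⟩
      exact ⟨u, hu, rfl⟩
    · rintro ⟨u, hu, rfl⟩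
      exact ⟨u, hu, rfl⟩
  obtain ⟨g, hg⟩ := MulAction.exists_smul_eq (PSLn n F) P₀ (α • P₀)
  -- the root elements
  have hroot : ∀ a : F, ∃ a' : F, α (prn (Matrix.SpecialLinearGroup.transvection hne a))
      = g * prn (Matrix.SpecialLinearGroup.transvection hne a') * g⁻¹ := by
    intro a
    have hx : prn (Matrix.SpecialLinearGroup.transvection hne a) ∈ (P₀ : Subgroup (PSLn n F)) :=
      (hP₀ _).mpr ⟨_, transvection_mem_UniS hlt a, rfl⟩
    have h1 : α (prn (Matrix.SpecialLinearGroup.transvection hne a))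
        ∈ ((α • P₀ : Sylow p (PSLn n F)) : Subgroup (PSLn n F)) :=
      (sylow_mem_aut_smul_iff α _ P₀).mpr ⟨_, hx, rfl⟩
    rw [← hg, sylow_mem_smul_iff] at h1
    obtain ⟨y, hy, hαx⟩ := h1
    obtain ⟨u, hu, rfl⟩ := (hP₀ y).mp hy
    have hc : ∀ x ∈ UniS n F, prn u * prn x = prn x * prn u := by
      intro x hx'
      have h2 : g * prn x * g⁻¹ ∈ ((g • P₀ : Sylow p (PSLn n F)) : Subgroup (PSLn n F)) :=
        (sylow_mem_smul_iff g _ P₀).mpr ⟨_, (hP₀ _).mpr ⟨x, hx', rfl⟩, rfl⟩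
      rw [hg, sylow_mem_aut_smul_iff] at h2
      obtain ⟨z, hz, hz'⟩ := h2
      obtain ⟨w, hw, rfl⟩ := (hP₀ z).mp hz
      have h3 : α (prn (Matrix.SpecialLinearGroup.transvection hne a)) * α (prn w)
          = α (prn w) * α (prn (Matrix.SpecialLinearGroup.transvection hne a)) := by
        rw [← map_mul, ← map_mul, ← map_mul, ← map_mul,
          transvection_central i0 il h0 hl hne a w hw]
      rw [hαx, ← hz'] at h3
      have h4 : g * (prn u * prn x) * g⁻¹ = g * (prn x * prn u) * g⁻¹ := by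
        have e1 : g * (prn u * prn x) * g⁻¹ = g * prn u * g⁻¹ * (g * prn x * g⁻¹) := by group
        have e2 : g * (prn x * prn u) * g⁻¹ = g * prn x * g⁻¹ * (g * prn u * g⁻¹) := by group
        rw [e1, e2, h3]
      exact mul_left_cancel (mul_right_cancel h4)
    refine ⟨(u : Mn n F) i0 il, ?_⟩
    rw [hαx, ← eq_transvection_of_central i0 il h0 hl hne u hu hc]
  -- the general case
  obtain ⟨s, a, hs⟩ := exists_conj_transvection i0 il hne v φ h
  obtain ⟨a', ha'⟩ := hroot a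
  obtain ⟨s', hs'⟩ := prn_surjective (α (prn s) * g)
  have h5 : α (prn (tvS v φ h))
      = prn (s' * Matrix.SpecialLinearGroup.transvection hne a' * s'⁻¹) := by
    rw [hs, map_mul, map_mul, map_mul, map_mul, map_inv, map_mul, map_mul, map_inv, map_inv, ha',
      hs']
    group
  rw [h5, transvection_eq_tvS]
  obtain ⟨h', h6⟩ := conj_tvS s' (Pi.single i0 a') (Pi.single il 1)
    (by rw [single_dotProduct, one_mul, Pi.single_eq_of_ne (Ne.symm hne)])
  exact ⟨_, _, h', by rw [h6]⟩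

end Pres

end Cfsg.Agent.Helper44.PSLn
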