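import Cfsg.Agent.Helper44.PSLnB

set_option autoImplicit false

/-!
Helper library (helper44): the subgroups `TP v` (images of the transvections with centre `v`)
and `TH φ` (images of the transvections with axis `ker φ`) of `PSL_n(F)`, `n ≥ 3`.  A subgroup
consisting of transvection images lies in some `TP v` or some `TH φ`; an automorphism permuting
the transvection images either maps every `TP v` to a `TP v'` and every `TH φ` to a `TH φ'`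
(`PT`), or does so after composition with the inverse-transpose automorphism.
-/

namespace Cfsg.Agent.Helper44.PSLn

open Matrix

universe u

section MapA

variable {G : Type*} [Group G]

/-- the image of a subgroup under an automorphism -/
def mapA (α : MulAut G) (H : Subgroup G) : Subgroup G := H.map α.toMonoidHom

theorem mem_mapA (α : MulAut G) (H : Subgroup G) (y : G) :
    y ∈ mapA α H ↔ ∃ x ∈ H, α x = y := Subgroup.mem_map

theorem apply_mem_mapA (α : MulAut G) {H : Subgroup G} {x : G} (hx : x ∈ H) :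
    α x ∈ mapA α H := (mem_mapA α H _).mpr ⟨x, hx, rfl⟩

theorem mem_mapA_iff (α : MulAut G) (H : Subgroup G) (y : G) :
    y ∈ mapA α H ↔ α⁻¹ y ∈ H := by
  rw [mem_mapA]
  constructor
  · rintro ⟨x, hx, rfl⟩
    rw [MulAut.inv_apply_self]
    exact hx
  · intro h
    exact ⟨α⁻¹ y, h, MulAut.apply_inv_self _ α y⟩

theorem mapA_mul (α β : MulAut G) (H : Subgroup G) : mapA (α * β) H = mapA α (mapA β H) := by
  ext y
  rw [mem_mapA_iff, mem_mapA_iff, mem_mapA_iff, _root_.mul_inv_rev, MulAut.mul_apply]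

theorem mapA_one (H : Subgroup G) : mapA (1 : MulAut G) H = H := by
  ext y
  rw [mem_mapA_iff, inv_one, MulAut.one_apply]

theorem mapA_mono (α : MulAut G) {H K : Subgroup G} (h : H ≤ K) : mapA α H ≤ mapA α K :=
  Subgroup.map_mono h

theorem mapA_injective (α : MulAut G) {H K : Subgroup G} (h : mapA α H = mapA α K) : H = K := by
  have h1 := congrArg (mapA α⁻¹) h
  rwa [← mapA_mul, ← mapA_mul, inv_mul_cancel, mapA_one, mapA_one] at h1

theorem mapA_inf_ne_bot (α : MulAut G) {H K : Subgroup G} (h : H ⊓ K ≠ ⊥) :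
    mapA α H ⊓ mapA α K ≠ ⊥ := by
  obtain ⟨x, hx1⟩ := (Subgroup.ne_bot_iff_exists_ne_one).mp h
  have hx' : (x : G) ∈ H ⊓ K := x.2
  intro hbot
  have h2 : α (x : G) ∈ mapA α H ⊓ mapA α K :=
    ⟨apply_mem_mapA α hx'.1, apply_mem_mapA α hx'.2⟩
  rw [hbot, Subgroup.mem_bot] at h2
  have h3 : (x : G) = 1 := α.injective (h2.trans (map_one α).symm)
  exact hx1 (Subtype.ext h3)

end MapA

section Geo

variable {n : ℕ} {F : Type u} [Field F]

theorem tvS_inv' (v φ : Fin n → F) (h : φ ⬝ᵥ v = 0) :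
    (tvS v φ h)⁻¹ = tvS (-v) φ (by rw [dotProduct_neg, h, neg_zero]) := by
  apply inv_eq_of_mul_eq_one_right
  rw [tvS_mul_same_axis, ← tvS_zero_left φ]
  exact tvS_congr (add_neg_cancel v) rfl _ _

/-- the images of the transvections with centre `v` -/
def TP (v : Fin n → F) : Subgroup (PSLn n F) where
  carrier := {x | ∃ (φ : Fin n → F) (h : φ ⬝ᵥ v = 0), x = prn (tvS v φ h)}
  mul_mem' := by
    rintro _ _ ⟨φ, h, rfl⟩ ⟨φ', h', rfl⟩
    exact ⟨φ + φ', by rw [add_dotProduct, h, h', add_zero],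
      by rw [← map_mul, tvS_mul_same_center]⟩
  one_mem' := ⟨0, zero_dotProduct v, by rw [tvS_zero_right, map_one]⟩
  inv_mem' := by
    rintro _ ⟨φ, h, rfl⟩
    exact ⟨-φ, by rw [neg_dotProduct, h, neg_zero], by rw [← map_inv, tvS_inv]⟩

/-- the images of the transvections with axis `ker φ` -/
def TH (φ : Fin n → F) : Subgroup (PSLn n F) where
  carrier := {x | ∃ (v : Fin n → F) (h : φ ⬝ᵥ v = 0), x = prn (tvS v φ h)}
  mul_mem' := by
    rintro _ _ ⟨v, h, rfl⟩ ⟨v', h', rfl⟩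
    exact ⟨v + v', by rw [dotProduct_add, h, h', add_zero],
      by rw [← map_mul, tvS_mul_same_axis]⟩
  one_mem' := ⟨0, dotProduct_zero φ, by rw [tvS_zero_left, map_one]⟩
  inv_mem' := by
    rintro _ ⟨v, h, rfl⟩
    exact ⟨-v, by rw [dotProduct_neg, h, neg_zero], by rw [← map_inv, tvS_inv']⟩

theorem mem_TP (v : Fin n → F) (x : PSLn n F) :
    x ∈ TP v ↔ ∃ (φ : Fin n → F) (h : φ ⬝ᵥ v = 0), x = prn (tvS v φ h) := Iff.rfl

theorem mem_TH (φ : Fin n → F) (x : PSLn n F) :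
    x ∈ TH φ ↔ ∃ (v : Fin n → F) (h : φ ⬝ᵥ v = 0), x = prn (tvS v φ h) := Iff.rfl

/-- images of transvections -/
def IsTv (x : PSLn n F) : Prop :=
  ∃ (v φ : Fin n → F) (h : φ ⬝ᵥ v = 0), x = prn (tvS v φ h)

theorem isTv_of_mem_TP {v : Fin n → F} {x : PSLn n F} (hx : x ∈ TP v) : IsTv x := by
  obtain ⟨φ, h, rfl⟩ := hx
  exact ⟨v, φ, h, rfl⟩

theorem isTv_of_mem_TH {φ : Fin n → F} {x : PSLn n F} (hx : x ∈ TH φ) : IsTv x := by
  obtain ⟨v, h, rfl⟩ := hx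
  exact ⟨v, φ, h, rfl⟩

theorem mem_TP_of_par {v v' φ' : Fin n → F} (h' : φ' ⬝ᵥ v' = 0) (hpar : Par v v')
    (hv : v ≠ 0) : prn (tvS v' φ' h') ∈ TP v := by
  obtain ⟨a, rfl⟩ := hpar.exists_smul hv
  have h0 : a • (φ' ⬝ᵥ v) = 0 := by rw [← dotProduct_smul]; exact h'
  have h1 : (a • φ') ⬝ᵥ v = 0 := by rw [smul_dotProduct]; exact h0
  refine ⟨a • φ', h1, ?_⟩
  congr 1
  apply Subtype.ext
  ext i j
  rw [tvS_coe, tvS_coe, tvM_apply, tvM_apply, Pi.smul_apply, Pi.smul_apply, smul_eq_mul,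
    smul_eq_mul]
  ring

theorem mem_TH_of_par {φ φ' v' : Fin n → F} (h' : φ' ⬝ᵥ v' = 0) (hpar : Par φ φ')
    (hφ : φ ≠ 0) : prn (tvS v' φ' h') ∈ TH φ := by
  obtain ⟨b, rfl⟩ := hpar.exists_smul hφ
  have h0 : b • (φ ⬝ᵥ v') = 0 := by rw [← smul_dotProduct]; exact h'
  have h1 : φ ⬝ᵥ (b • v') = 0 := by rw [dotProduct_smul]; exact h0
  refine ⟨b • v', h1, ?_⟩
  congr 1
  apply Subtype.ext
  ext i j
  rw [tvS_coe, tvS_coe, tvM_apply, tvM_apply, Pi.smul_apply, Pi.smul_apply, smul_eq_mul,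
    smul_eq_mul]
  ring

theorem TP_le_of_par {v v' : Fin n → F} (hpar : Par v v') (hv : v ≠ 0) : TP v' ≤ TP v := by
  rintro _ ⟨φ, h, rfl⟩
  exact mem_TP_of_par h hpar hv

theorem TH_le_of_par {φ φ' : Fin n → F} (hpar : Par φ φ') (hφ : φ ≠ 0) : TH φ' ≤ TH φ := by
  rintro _ ⟨v, h, rfl⟩
  exact mem_TH_of_par h hpar hφ

theorem TP_eq_of_par {v v' : Fin n → F} (hpar : Par v v') (hv : v ≠ 0) (hv' : v' ≠ 0) :
    TP v = TP v' :=
  le_antisymm (TP_le_of_par hpar.symm hv') (TP_le_of_par hpar hv)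

theorem TH_eq_of_par {φ φ' : Fin n → F} (hpar : Par φ φ') (hφ : φ ≠ 0) (hφ' : φ' ≠ 0) :
    TH φ = TH φ' :=
  le_antisymm (TH_le_of_par hpar.symm hφ') (TH_le_of_par hpar hφ)

theorem exists_single_ne_zero (hn : 3 ≤ n) :
    ∃ v : Fin n → F, v ≠ 0 := by
  refine ⟨Pi.single ⟨0, by omega⟩ 1, ?_⟩
  intro h
  have := congrFun h ⟨0, by omega⟩
  rw [Pi.single_eq_same, Pi.zero_apply] at this
  exact one_ne_zero this

/-- a subgroup consisting of transvection images lies in some `TP v` or some `TH φ` -/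
theorem le_TP_or_le_TH (hn : 3 ≤ n) (A : Subgroup (PSLn n F)) (hA : ∀ x ∈ A, IsTv x) :
    (∃ v : Fin n → F, v ≠ 0 ∧ A ≤ TP v) ∨ (∃ φ : Fin n → F, φ ≠ 0 ∧ A ≤ TH φ) := by
  by_cases hbot : A = ⊥
  · left
    obtain ⟨v, hv⟩ := exists_single_ne_zero (F := F) hn
    exact ⟨v, hv, by rw [hbot]; exact bot_le⟩
  · obtain ⟨x, hx1⟩ := (Subgroup.ne_bot_iff_exists_ne_one).mp hbot
    have hxA : (x : PSLn n F) ∈ A := x.2
    have hx1' : (x : PSLn n F) ≠ 1 := fun h => hx1 (Subtype.ext h)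
    obtain ⟨v, φ, h, hxe⟩ := hA _ hxA
    have hvφ : ¬ (v = 0 ∨ φ = 0) := by
      intro h0
      apply hx1'
      rw [hxe]
      exact (prn_tvS_eq_one_iff hn v φ h).mpr h0
    rw [not_or] at hvφ
    obtain ⟨hv, hφ⟩ := hvφ
    have key : ∀ y ∈ A, y ∈ TP v ∨ y ∈ TH φ := by
      intro y hy
      obtain ⟨v', φ', h', rfl⟩ := hA y hy
      obtain ⟨v'', φ'', h'', hxy⟩ := hA _ (A.mul_mem hxA hy)
      rw [hxe] at hxy
      rcases par_of_prn_mul hn v φ v' φ' v'' φ'' h h' h'' hxy with hp | hp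
      · left
        exact mem_TP_of_par h' hp hv
      · right
        exact mem_TH_of_par h' hp hφ
    by_contra hcon
    rw [not_or] at hcon
    obtain ⟨h1, h2⟩ := hcon
    have h1' : ¬ A ≤ TP v := fun hle => h1 ⟨v, hv, hle⟩
    have h2' : ¬ A ≤ TH φ := fun hle => h2 ⟨φ, hφ, hle⟩
    obtain ⟨y1, hy1, hy1'⟩ := Set.not_subset.mp h1'
    obtain ⟨y2, hy2, hy2'⟩ := Set.not_subset.mp h2'
    have hy1H : y1 ∈ TH φ := (key y1 hy1).resolve_left hy1'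
    have hy2P : y2 ∈ TP v := (key y2 hy2).resolve_right hy2'
    rcases key (y1 * y2) (A.mul_mem hy1 hy2) with h3 | h3
    · apply hy1'
      have := (TP v).mul_mem h3 ((TP v).inv_mem hy2P)
      rwa [mul_inv_cancel_right] at this
    · apply hy2'
      have := (TH φ).mul_mem ((TH φ).inv_mem hy1H) h3
      rwa [inv_mul_cancel_left] at this

theorem exists_perp_ne_zero (hn : 3 ≤ n) (v : Fin n → F) :
    ∃ φ : Fin n → F, φ ≠ 0 ∧ φ ⬝ᵥ v = 0 := by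
  obtain ⟨w, hw0, hw, -⟩ := exists_common_ker hn v v
  exact ⟨w, hw0, by rw [dotProduct_comm]; exact hw⟩

theorem exists_ker_ne_zero (hn : 3 ≤ n) (φ : Fin n → F) :
    ∃ v : Fin n → F, v ≠ 0 ∧ φ ⬝ᵥ v = 0 := by
  obtain ⟨w, hw0, hw, -⟩ := exists_common_ker hn φ φ
  exact ⟨w, hw0, hw⟩

theorem par_of_TP_le (hn : 3 ≤ n) {v v' : Fin n → F} (hv : v ≠ 0) (hle : TP v ≤ TP v') :
    v' ≠ 0 ∧ Par v v' := by
  obtain ⟨φ, hφ, h⟩ := exists_perp_ne_zero hn v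
  have hx : prn (tvS v φ h) ∈ TP v' := hle ⟨φ, h, rfl⟩
  obtain ⟨φ', h', he⟩ := hx
  have hne : prn (tvS v φ h) ≠ 1 := by
    rw [Ne, prn_tvS_eq_one_iff hn, not_or]
    exact ⟨hv, hφ⟩
  refine ⟨?_, (par_of_prn_eq hn v φ v' φ' h h' hv hφ he).1⟩
  rintro rfl
  apply hne
  rw [he]
  exact (prn_tvS_eq_one_iff hn _ _ _).mpr (Or.inl rfl)

theorem exists_two_ne (hn : 3 ≤ n) (i : Fin n) : ∃ j k : Fin n, j ≠ i ∧ k ≠ i ∧ j ≠ k := by
  by_cases h0 : (i : ℕ) = 0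
  · refine ⟨⟨1, by omega⟩, ⟨2, by omega⟩, ?_, ?_, ?_⟩
    · intro h; have := congrArg Fin.val h; simp at this; omega
    · intro h; have := congrArg Fin.val h; simp at this; omega
    · intro h; have := congrArg Fin.val h; simp at this
  · by_cases h1 : (i : ℕ) = 1
    · refine ⟨⟨0, by omega⟩, ⟨2, by omega⟩, ?_, ?_, ?_⟩
      · intro h; have := congrArg Fin.val h; simp at this; omega
      · intro h; have := congrArg Fin.val h; simp at this; omega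
      · intro h; have := congrArg Fin.val h; simp at this
    · refine ⟨⟨0, by omega⟩, ⟨1, by omega⟩, ?_, ?_, ?_⟩
      · intro h; have := congrArg Fin.val h; simp at this; omega
      · intro h; have := congrArg Fin.val h; simp at this; omega
      · intro h; have := congrArg Fin.val h; simp at this

theorem exists_ne_ne (hn : 3 ≤ n) (i j : Fin n) : ∃ k : Fin n, k ≠ i ∧ k ≠ j := by
  obtain ⟨a, b, ha, hb, hab⟩ := exists_two_ne hn i
  by_cases h : a = j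
  · exact ⟨b, hb, fun h2 => hab (h.trans h2.symm)⟩
  · exact ⟨a, ha, h⟩

/-- for `n ≥ 3` no `TP v` is contained in a `TH φ` -/
theorem not_TP_le_TH (hn : 3 ≤ n) (v φ : Fin n → F) (hv : v ≠ 0) : ¬ TP v ≤ TH φ := by
  intro hle
  obtain ⟨i, hi⟩ := Function.ne_iff.mp hv
  rw [Pi.zero_apply] at hi
  obtain ⟨j, k, hji, hki, hjk⟩ := exists_two_ne hn i
  have aux : ∀ m : Fin n, m ≠ i →
      ∃ ψ : Fin n → F, ψ m = v i ∧ (∀ l, l ≠ m → l ≠ i → ψ l = 0) ∧ ψ ≠ 0 ∧ Par ψ φ ∧ φ ≠ 0 := by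
    intro m hmi
    have hψ : (v i • (Pi.single m 1 : Fin n → F) - v m • Pi.single i 1) ⬝ᵥ v = 0 := by
      rw [sub_dotProduct, smul_dotProduct, smul_dotProduct, single_dotProduct,
        single_dotProduct, one_mul, one_mul, smul_eq_mul, smul_eq_mul]
      ring
    have hm : (v i • (Pi.single m 1 : Fin n → F) - v m • (Pi.single i 1 : Fin n → F)) m
        = v i := by
      rw [Pi.sub_apply, Pi.smul_apply, Pi.smul_apply, Pi.single_eq_same,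
        Pi.single_eq_of_ne hmi, smul_zero, sub_zero, smul_eq_mul, mul_one]
    have hψ0 : (v i • (Pi.single m 1 : Fin n → F) - v m • Pi.single i 1) ≠ 0 := by
      intro h0
      rw [h0, Pi.zero_apply] at hm
      exact hi hm.symm
    have hx : prn (tvS v _ hψ) ∈ TH φ := hle ⟨_, hψ, rfl⟩
    obtain ⟨w, hw, he⟩ := hx
    have hne : prn (tvS v _ hψ) ≠ 1 := by
      rw [Ne, prn_tvS_eq_one_iff hn, not_or]
      exact ⟨hv, hψ0⟩
    refine ⟨_, hm, ?_, hψ0, (par_of_prn_eq hn v _ w φ hψ hw hv hψ0 he).2, ?_⟩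
    · intro l hlm hli
      rw [Pi.sub_apply, Pi.smul_apply, Pi.smul_apply, Pi.single_eq_of_ne hlm,
        Pi.single_eq_of_ne hli, smul_zero, smul_zero, sub_zero]
    · rintro rfl
      apply hne
      rw [he]
      exact (prn_tvS_eq_one_iff hn _ _ _).mpr (Or.inr rfl)
  obtain ⟨ψ1, h1j, h1z, -, hp1, hφ⟩ := aux j hji
  obtain ⟨ψ2, h2k, h2z, -, hp2, -⟩ := aux k hki
  have hp : Par ψ1 ψ2 := hp1.trans hp2.symm hφ
  have h3 := hp j k
  rw [h1j, h2k, h2z j hjk hji, h1z k (Ne.symm hjk) hki, zero_mul] at h3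
  exact hi (mul_self_eq_zero.mp h3)

theorem par_of_TP_inf_TP (hn : 3 ≤ n) {v v' : Fin n → F} (h : TP v ⊓ TP v' ≠ ⊥) :
    v ≠ 0 ∧ v' ≠ 0 ∧ Par v v' := by
  obtain ⟨x, hx1⟩ := (Subgroup.ne_bot_iff_exists_ne_one).mp h
  have hx' : (x : PSLn n F) ∈ TP v ⊓ TP v' := x.2
  have hx1' : (x : PSLn n F) ≠ 1 := fun h => hx1 (Subtype.ext h)
  obtain ⟨⟨φ, hφ, he⟩, ⟨φ', hφ', he'⟩⟩ := hx'
  have h1 : ¬ (v = 0 ∨ φ = 0) := fun h0 => hx1' (by rw [he]; exact (prn_tvS_eq_one_iff hn _ _ _).mpr h0)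
  have h2 : ¬ (v' = 0 ∨ φ' = 0) := fun h0 => hx1' (by rw [he']; exact (prn_tvS_eq_one_iff hn _ _ _).mpr h0)
  rw [not_or] at h1 h2
  exact ⟨h1.1, h2.1, (par_of_prn_eq hn v φ v' φ' hφ hφ' h1.1 h1.2 (he.symm.trans he')).1⟩

theorem par_of_TH_inf_TH (hn : 3 ≤ n) {φ φ' : Fin n → F} (h : TH φ ⊓ TH φ' ≠ ⊥) :
    φ ≠ 0 ∧ φ' ≠ 0 ∧ Par φ φ' := by
  obtain ⟨x, hx1⟩ := (Subgroup.ne_bot_iff_exists_ne_one).mp h
  have hx' : (x : PSLn n F) ∈ TH φ ⊓ TH φ' := x.2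
  have hx1' : (x : PSLn n F) ≠ 1 := fun h => hx1 (Subtype.ext h)
  obtain ⟨⟨v, hv, he⟩, ⟨v', hv', he'⟩⟩ := hx'
  have h1 : ¬ (v = 0 ∨ φ = 0) := fun h0 => hx1' (by rw [he]; exact (prn_tvS_eq_one_iff hn _ _ _).mpr h0)
  have h2 : ¬ (v' = 0 ∨ φ' = 0) := fun h0 => hx1' (by rw [he']; exact (prn_tvS_eq_one_iff hn _ _ _).mpr h0)
  rw [not_or] at h1 h2
  exact ⟨h1.2, h2.2, (par_of_prn_eq hn v φ v' φ' hv hv' h1.1 h1.2 (he.symm.trans he')).2⟩

/-- incidence of a point and a hyperplane in terms of the subgroups `TP`, `TH` -/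
theorem TP_inf_TH_ne_bot_iff (hn : 3 ≤ n) (v φ : Fin n → F) (hv : v ≠ 0) (hφ : φ ≠ 0) :
    TP v ⊓ TH φ ≠ ⊥ ↔ φ ⬝ᵥ v = 0 := by
  constructor
  · intro h
    obtain ⟨x, hx1⟩ := (Subgroup.ne_bot_iff_exists_ne_one).mp h
    have hx' : (x : PSLn n F) ∈ TP v ⊓ TH φ := x.2
    have hx1' : (x : PSLn n F) ≠ 1 := fun h => hx1 (Subtype.ext h)
    obtain ⟨⟨ψ, hψ, he⟩, ⟨w, hw, he'⟩⟩ := hx'
    have h1 : ¬ (v = 0 ∨ ψ = 0) := fun h0 => hx1' (by rw [he]; exact (prn_tvS_eq_one_iff hn _ _ _).mpr h0)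
    have h2 : ¬ (w = 0 ∨ φ = 0) := fun h0 => hx1' (by rw [he']; exact (prn_tvS_eq_one_iff hn _ _ _).mpr h0)
    rw [not_or] at h1 h2
    have hpar := (par_of_prn_eq hn v ψ w φ hψ hw h1.1 h1.2 (he.symm.trans he')).1
    obtain ⟨a, ha, rfl⟩ := hpar.exists_smul_ne hv h2.1
    rw [dotProduct_smul, smul_eq_mul] at hw
    exact (mul_eq_zero.mp hw).resolve_left ha
  · intro h
    intro hbot
    have hx : prn (tvS v φ h) ∈ TP v ⊓ TH φ := ⟨⟨φ, h, rfl⟩, ⟨v, h, rfl⟩⟩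
    rw [hbot, Subgroup.mem_bot, prn_tvS_eq_one_iff hn] at hx
    rcases hx with h0 | h0
    · exact hv h0
    · exact hφ h0

/-- the root subgroup `TP v ⊓ TH φ` -/
theorem mem_TP_inf_TH (hn : 3 ≤ n) (v φ : Fin n → F) (hφ : φ ≠ 0)
    (h : φ ⬝ᵥ v = 0) (x : PSLn n F) (hx : x ∈ TP v ⊓ TH φ) :
    ∃ (a : F) (ha : (a • φ) ⬝ᵥ v = 0), x = prn (tvS v (a • φ) ha) := by
  have hsm : ∀ a : F, (a • φ) ⬝ᵥ v = 0 := fun a => by rw [smul_dotProduct, h, smul_zero]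
  by_cases hx1 : x = 1
  · refine ⟨0, hsm 0, ?_⟩
    rw [hx1]
    symm
    exact (prn_tvS_eq_one_iff hn _ _ _).mpr (Or.inr (zero_smul F φ))
  · obtain ⟨⟨ψ, hψ, he⟩, ⟨w, hw, he'⟩⟩ := hx
    have h1 : ¬ (v = 0 ∨ ψ = 0) := fun h0 => hx1 (by rw [he]; exact (prn_tvS_eq_one_iff hn _ _ _).mpr h0)
    rw [not_or] at h1
    have hpar := (par_of_prn_eq hn v ψ w φ hψ hw h1.1 h1.2 (he.symm.trans he')).2
    obtain ⟨a, rfl⟩ := hpar.symm.exists_smul hφ
    exact ⟨a, hψ, he⟩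

theorem iAutN_tvS (v φ : Fin n → F) (h : φ ⬝ᵥ v = 0) :
    iAutN (prn (tvS v φ h))
      = prn (tvS (-φ) v (by rw [dotProduct_neg, dotProduct_comm, h, neg_zero])) := by
  rw [iAutN_prn, itFun_tvS]

theorem mapA_iAutN_TP (v : Fin n → F) : mapA iAutN (TP v) = TH v := by
  ext x
  rw [mem_mapA]
  constructor
  · rintro ⟨_, ⟨φ, h, rfl⟩, rfl⟩
    rw [iAutN_tvS]
    exact ⟨-φ, _, rfl⟩
  · rintro ⟨w, h, rfl⟩
    have h' : (-w) ⬝ᵥ v = 0 := by rw [neg_dotProduct, dotProduct_comm, h, neg_zero]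
    refine ⟨prn (tvS v (-w) h'), ⟨-w, h', rfl⟩, ?_⟩
    rw [iAutN_tvS]
    congr 1
    exact tvS_congr (neg_neg w) rfl _ _

theorem mapA_iAutN_TH (φ : Fin n → F) : mapA iAutN (TH φ) = TP φ := by
  rw [← mapA_iAutN_TP, ← mapA_mul, iAutN_mul_self, mapA_one]

/-- for `n ≥ 3` no `TH φ` is contained in a `TP v` -/
theorem not_TH_le_TP (hn : 3 ≤ n) (φ v : Fin n → F) (hφ : φ ≠ 0) : ¬ TH φ ≤ TP v := by
  intro hle
  have h1 := mapA_mono iAutN hle
  rw [mapA_iAutN_TH, mapA_iAutN_TP] at h1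
  exact not_TP_le_TH hn φ v hφ h1

/-- automorphisms mapping transvection images to transvection images -/
def Pres (α : MulAut (PSLn n F)) : Prop := ∀ x, IsTv x → IsTv (α x)

theorem pres_iAutN : Pres (iAutN : MulAut (PSLn n F)) := by
  rintro _ ⟨v, φ, h, rfl⟩
  rw [iAutN_tvS]
  exact ⟨_, _, _, rfl⟩

theorem Pres.mul {α β : MulAut (PSLn n F)} (hα : Pres α) (hβ : Pres β) : Pres (α * β) :=
  fun x hx => hα _ (hβ x hx)

theorem isTv_of_mem_mapA_TP {α : MulAut (PSLn n F)} (hα : Pres α) {v : Fin n → F}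
    {x : PSLn n F} (hx : x ∈ mapA α (TP v)) : IsTv x := by
  obtain ⟨y, hy, rfl⟩ := (mem_mapA _ _ _).mp hx
  exact hα y (isTv_of_mem_TP hy)

/-- if the image of `TP v` lies in a subgroup of transvection images, it is equal to it -/
theorem mapA_TP_eq_of_le (hn : 3 ≤ n) (α : MulAut (PSLn n F)) (hα' : Pres α⁻¹)
    (v : Fin n → F) (hv : v ≠ 0) (S : Subgroup (PSLn n F)) (hS : ∀ x ∈ S, IsTv x)
    (hle : mapA α (TP v) ≤ S) : mapA α (TP v) = S := by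
  have h1 : TP v ≤ mapA α⁻¹ S := by
    intro x hx
    rw [mem_mapA_iff, inv_inv]
    exact hle (apply_mem_mapA α hx)
  have h2 : ∀ y ∈ mapA α⁻¹ S, IsTv y := by
    intro y hy
    obtain ⟨z, hz, rfl⟩ := (mem_mapA _ _ _).mp hy
    exact hα' z (hS z hz)
  have h3 : mapA α⁻¹ S = TP v := by
    rcases le_TP_or_le_TH hn _ h2 with ⟨v'', hv'', hle''⟩ | ⟨φ'', hφ'', hle''⟩
    · obtain ⟨-, hpar⟩ := par_of_TP_le hn hv (h1.trans hle'')
      rw [← TP_eq_of_par hpar hv hv''] at hle''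
      exact le_antisymm hle'' h1
    · exact absurd (h1.trans hle'') (not_TP_le_TH hn v φ'' hv)
  rw [← h3, ← mapA_mul, mul_inv_cancel, mapA_one]

/-- the image of a `TP v` is a `TP v'` or a `TH φ'` -/
theorem mapA_TP_type (hn : 3 ≤ n) (α : MulAut (PSLn n F)) (hα : Pres α) (hα' : Pres α⁻¹)
    (v : Fin n → F) (hv : v ≠ 0) :
    (∃ v' : Fin n → F, v' ≠ 0 ∧ mapA α (TP v) = TP v')
      ∨ (∃ φ' : Fin n → F, φ' ≠ 0 ∧ mapA α (TP v) = TH φ') := by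
  rcases le_TP_or_le_TH hn (mapA α (TP v)) (fun x hx => isTv_of_mem_mapA_TP hα hx) with
    ⟨v', hv', hle⟩ | ⟨φ', hφ', hle⟩
  · left
    exact ⟨v', hv', mapA_TP_eq_of_le hn α hα' v hv _ (fun x hx => isTv_of_mem_TP hx) hle⟩
  · right
    exact ⟨φ', hφ', mapA_TP_eq_of_le hn α hα' v hv _ (fun x hx => isTv_of_mem_TH hx) hle⟩

/-- the image of a `TH φ` is a `TH φ'` or a `TP v'` -/
theorem mapA_TH_type (hn : 3 ≤ n) (α : MulAut (PSLn n F)) (hα : Pres α) (hα' : Pres α⁻¹)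
    (φ : Fin n → F) (hφ : φ ≠ 0) :
    (∃ φ' : Fin n → F, φ' ≠ 0 ∧ mapA α (TH φ) = TH φ')
      ∨ (∃ v' : Fin n → F, v' ≠ 0 ∧ mapA α (TH φ) = TP v') := by
  have h1 : Pres (α * iAutN) := hα.mul pres_iAutN
  have h2 : Pres (α * iAutN)⁻¹ := by
    rw [_root_.mul_inv_rev, iAutN_inv]
    exact pres_iAutN.mul hα'
  have h3 : mapA (α * iAutN) (TP φ) = mapA α (TH φ) := by rw [mapA_mul, mapA_iAutN_TP]
  rcases mapA_TP_type hn (α * iAutN) h1 h2 φ hφ with ⟨v', hv', he⟩ | ⟨φ', hφ', he⟩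
  · right
    exact ⟨v', hv', by rw [← h3, he]⟩
  · left
    exact ⟨φ', hφ', by rw [← h3, he]⟩

/-- if one `TP v₀` is mapped to a `TP v₀'`, then so is every `TP v` -/
theorem pointType_of_one (hn : 3 ≤ n) (α : MulAut (PSLn n F)) (hα : Pres α) (hα' : Pres α⁻¹)
    (v₀ v₀' : Fin n → F) (hv₀ : v₀ ≠ 0) (hv₀' : v₀' ≠ 0) (h₀ : mapA α (TP v₀) = TP v₀')
    (v : Fin n → F) (hv : v ≠ 0) : ∃ v' : Fin n → F, v' ≠ 0 ∧ mapA α (TP v) = TP v' := by
  obtain ⟨φ, hφ0, hφ1, hφ2⟩ := exists_common_ker hn v₀ v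
  rw [dotProduct_comm] at hφ1 hφ2
  have hinc₀ : TP v₀ ⊓ TH φ ≠ ⊥ := (TP_inf_TH_ne_bot_iff hn v₀ φ hv₀ hφ0).mpr hφ1
  have hinc : TP v ⊓ TH φ ≠ ⊥ := (TP_inf_TH_ne_bot_iff hn v φ hv hφ0).mpr hφ2
  rcases mapA_TH_type hn α hα hα' φ hφ0 with ⟨φ', hφ', heH⟩ | ⟨w', hw', heH⟩
  · rcases mapA_TP_type hn α hα hα' v hv with ⟨v', hv', he⟩ | ⟨ψ, hψ, he⟩
    · exact ⟨v', hv', he⟩
    · exfalso
      have h1 := mapA_inf_ne_bot α hinc
      rw [he, heH] at h1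
      obtain ⟨-, -, hpar⟩ := par_of_TH_inf_TH hn h1
      have h2 : mapA α (TP v) = mapA α (TH φ) := by
        rw [he, heH, TH_eq_of_par hpar hψ hφ']
      have h3 := mapA_injective α h2
      exact not_TP_le_TH hn v φ hv (le_of_eq h3)
  · exfalso
    have h1 := mapA_inf_ne_bot α hinc₀
    rw [h₀, heH] at h1
    obtain ⟨-, -, hpar⟩ := par_of_TP_inf_TP hn h1
    have h2 : mapA α (TP v₀) = mapA α (TH φ) := by
      rw [h₀, heH, TP_eq_of_par hpar hv₀' hw']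
    have h3 := mapA_injective α h2
    exact not_TP_le_TH hn v₀ φ hv₀ (le_of_eq h3)

theorem hypType_of_pointType (hn : 3 ≤ n) (α : MulAut (PSLn n F)) (hα : Pres α)
    (hα' : Pres α⁻¹)
    (hP : ∀ v : Fin n → F, v ≠ 0 → ∃ v' : Fin n → F, v' ≠ 0 ∧ mapA α (TP v) = TP v')
    (φ : Fin n → F) (hφ : φ ≠ 0) : ∃ φ' : Fin n → F, φ' ≠ 0 ∧ mapA α (TH φ) = TH φ' := by
  rcases mapA_TH_type hn α hα hα' φ hφ with ⟨φ', hφ', heH⟩ | ⟨w', hw', heH⟩
  · exact ⟨φ', hφ', heH⟩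
  · exfalso
    obtain ⟨v, hv, hφv⟩ := exists_ker_ne_zero hn φ
    obtain ⟨v', hv', he⟩ := hP v hv
    have hinc : TP v ⊓ TH φ ≠ ⊥ := (TP_inf_TH_ne_bot_iff hn v φ hv hφ).mpr hφv
    have h1 := mapA_inf_ne_bot α hinc
    rw [he, heH] at h1
    obtain ⟨-, -, hpar⟩ := par_of_TP_inf_TP hn h1
    have h2 : mapA α (TP v) = mapA α (TH φ) := by
      rw [he, heH, TP_eq_of_par hpar hv' hw']
    have h3 := mapA_injective α h2
    exact not_TP_le_TH hn v φ hv (le_of_eq h3)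

/-- type-preserving automorphisms: points to points and hyperplanes to hyperplanes -/
def PT (α : MulAut (PSLn n F)) : Prop :=
  (∀ v : Fin n → F, v ≠ 0 → ∃ v' : Fin n → F, v' ≠ 0 ∧ mapA α (TP v) = TP v')
    ∧ (∀ φ : Fin n → F, φ ≠ 0 → ∃ φ' : Fin n → F, φ' ≠ 0 ∧ mapA α (TH φ) = TH φ')

/-- **dichotomy**: an automorphism permuting the transvection images is type-preserving, or
becomes so after composition with the inverse-transpose automorphism -/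
theorem pt_or_pt_iAutN (hn : 3 ≤ n) (α : MulAut (PSLn n F)) (hα : Pres α) (hα' : Pres α⁻¹) :
    PT α ∨ PT (iAutN * α) := by
  obtain ⟨v₀, hv₀⟩ := exists_single_ne_zero (F := F) hn
  rcases mapA_TP_type hn α hα hα' v₀ hv₀ with ⟨v₀', hv₀', he⟩ | ⟨φ', hφ', he⟩
  · left
    have hP := pointType_of_one hn α hα hα' v₀ v₀' hv₀ hv₀' he
    exact ⟨hP, hypType_of_pointType hn α hα hα' hP⟩
  · right
    have h1 : Pres (iAutN * α) := pres_iAutN.mul hα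
    have h2 : Pres (iAutN * α)⁻¹ := by
      rw [_root_.mul_inv_rev, iAutN_inv]
      exact hα'.mul pres_iAutN
    have h3 : mapA (iAutN * α) (TP v₀) = TP φ' := by rw [mapA_mul, he, mapA_iAutN_TH]
    have hP := pointType_of_one hn (iAutN * α) h1 h2 v₀ φ' hv₀ hφ' h3
    exact ⟨hP, hypType_of_pointType hn (iAutN * α) h1 h2 hP⟩

end Geo

end Cfsg.Agent.Helper44.PSLn
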