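import Cfsg.Agent.Helper44.PSLnE

set_option autoImplicit false

/-!
Helper library (helper44): a type-preserving automorphism of `PSL_n(F)`, `n ≥ 3`, maps the
standard frame of points and hyperplanes to the frame of some `g ∈ GL_n(F)`; an automorphism
fixing every root subgroup of the standard frame is the product of a diagonal automorphism and
a field automorphism (`frame_aut`).
-/

namespace Cfsg.Agent.Helper44.PSLn

open Matrix

open scoped commutatorElement

universe u

section Frame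

variable {n : ℕ} {F : Type u} [Field F]

theorem dAutN_tvS (g : GL (Fin n) F) (v φ : Fin n → F) (h : φ ⬝ᵥ v = 0) :
    ∃ h' : (φ ᵥ* ((g⁻¹ : GL (Fin n) F) : Mn n F)) ⬝ᵥ ((g : Mn n F) *ᵥ v) = 0,
      dAutN g (prn (tvS v φ h))
        = prn (tvS ((g : Mn n F) *ᵥ v) (φ ᵥ* ((g⁻¹ : GL (Fin n) F) : Mn n F)) h') := by
  have h' : (φ ᵥ* ((g⁻¹ : GL (Fin n) F) : Mn n F)) ⬝ᵥ ((g : Mn n F) *ᵥ v) = 0 := by
    rw [← dotProduct_mulVec, mulVec_mulVec, ← Units.val_mul, inv_mul_cancel, Units.val_one,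
      one_mulVec, h]
  exact ⟨h', by rw [dAutN_prn, conjFun_tvS]⟩

theorem mapA_dAutN_TP (g : GL (Fin n) F) (v : Fin n → F) :
    mapA (dAutN g) (TP v) = TP ((g : Mn n F) *ᵥ v) := by
  ext x
  rw [mem_mapA]
  constructor
  · rintro ⟨_, ⟨φ, h, rfl⟩, rfl⟩
    obtain ⟨h', he⟩ := dAutN_tvS g v φ h
    rw [he]
    exact ⟨_, h', rfl⟩
  · rintro ⟨ψ, h, rfl⟩
    have h1 : (ψ ᵥ* (g : Mn n F)) ⬝ᵥ v = 0 := by rw [← dotProduct_mulVec]; exact h
    refine ⟨prn (tvS v (ψ ᵥ* (g : Mn n F)) h1), ⟨_, h1, rfl⟩, ?_⟩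
    obtain ⟨h', he⟩ := dAutN_tvS g v _ h1
    rw [he]
    congr 1
    apply tvS_congr rfl
    rw [vecMul_vecMul, ← Units.val_mul, mul_inv_cancel, Units.val_one, vecMul_one]

theorem mapA_dAutN_TH (g : GL (Fin n) F) (φ : Fin n → F) :
    mapA (dAutN g) (TH φ) = TH (φ ᵥ* ((g⁻¹ : GL (Fin n) F) : Mn n F)) := by
  ext x
  rw [mem_mapA]
  constructor
  · rintro ⟨_, ⟨v, h, rfl⟩, rfl⟩
    obtain ⟨h', he⟩ := dAutN_tvS g v φ h
    rw [he]
    exact ⟨_, h', rfl⟩
  · rintro ⟨w, h, rfl⟩
    have h1 : φ ⬝ᵥ (((g⁻¹ : GL (Fin n) F) : Mn n F) *ᵥ w) = 0 := by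
      rw [dotProduct_mulVec]; exact h
    refine ⟨prn (tvS _ φ h1), ⟨_, h1, rfl⟩, ?_⟩
    obtain ⟨h', he⟩ := dAutN_tvS g _ φ h1
    rw [he]
    congr 1
    refine tvS_congr ?_ rfl _ _
    rw [mulVec_mulVec, ← Units.val_mul, mul_inv_cancel, Units.val_one, one_mulVec]

/-- a type-preserving automorphism preserves incidence -/
theorem inc_iff (hn : 3 ≤ n) (α : MulAut (PSLn n F)) (v φ v' φ' : Fin n → F) (hv : v ≠ 0)
    (hφ : φ ≠ 0) (hv' : v' ≠ 0) (hφ' : φ' ≠ 0) (he : mapA α (TP v) = TP v')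
    (he' : mapA α (TH φ) = TH φ') : φ' ⬝ᵥ v' = 0 ↔ φ ⬝ᵥ v = 0 := by
  rw [← TP_inf_TH_ne_bot_iff hn v' φ' hv' hφ', ← TP_inf_TH_ne_bot_iff hn v φ hv hφ]
  constructor
  · intro h
    have h1 := mapA_inf_ne_bot α⁻¹ h
    rwa [← he, ← he', ← mapA_mul, ← mapA_mul, inv_mul_cancel, mapA_one, mapA_one] at h1
  · intro h
    have h1 := mapA_inf_ne_bot α h
    rwa [he, he'] at h1

theorem single_ne_zero' (i : Fin n) : (Pi.single i 1 : Fin n → F) ≠ 0 := by
  intro h
  have := congrFun h i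
  rw [Pi.single_eq_same, Pi.zero_apply] at this
  exact one_ne_zero this

/-- the images of the standard frame under a type-preserving automorphism form the frame of
some `g ∈ GL_n(F)` -/
theorem exists_frame (hn : 3 ≤ n) (α : MulAut (PSLn n F)) (hPT : PT α) :
    ∃ g : GL (Fin n) F,
      (∀ i : Fin n, mapA ((dAutN g)⁻¹ * α) (TP (Pi.single i 1)) = TP (Pi.single i 1))
      ∧ (∀ j : Fin n, mapA ((dAutN g)⁻¹ * α) (TH (Pi.single j 1)) = TH (Pi.single j 1)) := by
  choose vi hvi0 hvi using fun i : Fin n => hPT.1 (Pi.single i 1) (single_ne_zero' i)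
  choose ψj hψj0 hψj using fun j : Fin n => hPT.2 (Pi.single j 1) (single_ne_zero' j)
  have hinc : ∀ i j : Fin n, ψj j ⬝ᵥ vi i = 0 ↔ i ≠ j := by
    intro i j
    rw [inc_iff hn α _ _ _ _ (single_ne_zero' i) (single_ne_zero' j) (hvi0 i) (hψj0 j) (hvi i)
      (hψj j), single_dotProduct, one_mul]
    constructor
    · intro h hij
      subst hij
      rw [Pi.single_eq_same] at h
      exact one_ne_zero h
    · intro hij
      exact Pi.single_eq_of_ne (Ne.symm hij) _
  let g₀ : Mn n F := Matrix.of fun k i => vi i k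
  let h₀ : Mn n F := Matrix.of fun j k => ψj j k
  have hprod : h₀ * g₀ = Matrix.diagonal (fun j => ψj j ⬝ᵥ vi j) := by
    ext j i
    rw [Matrix.mul_apply, Matrix.diagonal_apply]
    by_cases hji : j = i
    · subst hji
      rw [if_pos rfl]
      rfl
    · rw [if_neg hji]
      exact (hinc i j).mpr (Ne.symm hji)
  have hdet : g₀.det ≠ 0 := by
    intro h0
    have h1 := congrArg Matrix.det hprod
    rw [Matrix.det_mul, h0, mul_zero, Matrix.det_diagonal] at h1
    obtain ⟨j, -, hj⟩ := Finset.prod_eq_zero_iff.mp h1.symm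
    exact ((hinc j j).mp hj) rfl
  let g : GL (Fin n) F := Matrix.GeneralLinearGroup.mkOfDetNeZero g₀ hdet
  have hg : (g : Mn n F) = g₀ := rfl
  refine ⟨g, fun i => ?_, fun j => ?_⟩
  · rw [mapA_mul, hvi i]
    have h1 : TP (vi i) = mapA (dAutN g) (TP (Pi.single i 1)) := by
      rw [mapA_dAutN_TP, hg, mulVec_single_one]
      rfl
    rw [h1, ← mapA_mul, inv_mul_cancel, mapA_one]
  · rw [mapA_mul, hψj j]
    have h1 : TH (ψj j) = mapA (dAutN g) (TH (Pi.single j 1)) := by
      rw [mapA_dAutN_TH]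
      have h2 : ψj j ᵥ* g₀ = (ψj j ⬝ᵥ vi j) • (Pi.single j 1 : Fin n → F) := by
        ext i
        rw [Pi.smul_apply, smul_eq_mul]
        by_cases hji : j = i
        · subst hji
          rw [Pi.single_eq_same, mul_one]
          rfl
        · rw [Pi.single_eq_of_ne (Ne.symm hji), mul_zero]
          exact (hinc i j).mpr (Ne.symm hji)
      have h3 : ∃ d : F, ψj j
          = d • ((Pi.single j 1 : Fin n → F) ᵥ* ((g⁻¹ : GL (Fin n) F) : Mn n F)) := by
        refine ⟨ψj j ⬝ᵥ vi j, ?_⟩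
        rw [← smul_vecMul, ← h2, ← hg, vecMul_vecMul, ← Units.val_mul, mul_inv_cancel,
          Units.val_one, vecMul_one]
      obtain ⟨d, hd⟩ := h3
      have h4 : (Pi.single j 1 : Fin n → F) ᵥ* ((g⁻¹ : GL (Fin n) F) : Mn n F) ≠ 0 := by
        intro h0
        rw [h0, smul_zero] at hd
        exact hψj0 j hd
      have h5 : Par ((Pi.single j 1 : Fin n → F) ᵥ* ((g⁻¹ : GL (Fin n) F) : Mn n F)) (ψj j) := by
        rw [hd]
        exact par_smul _ _
      exact (TH_eq_of_par h5 h4 (hψj0 j)).symm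
    rw [h1, ← mapA_mul, inv_mul_cancel, mapA_one]

theorem transvection_eq_tvS' {i j : Fin n} (hij : i ≠ j) (a : F) :
    Matrix.SpecialLinearGroup.transvection hij a
      = tvS (Pi.single i 1) (a • (Pi.single j 1 : Fin n → F)) (by
        rw [smul_dotProduct, single_dotProduct, one_mul, Pi.single_eq_of_ne (Ne.symm hij),
          smul_zero]) := by
  rw [transvection_eq_tvS]
  apply Subtype.ext
  ext k l
  rw [tvS_coe, tvS_coe, tvM_apply, tvM_apply, Pi.smul_apply, smul_eq_mul]
  congr 1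
  by_cases hk : k = i
  · subst hk
    rw [Pi.single_eq_same, Pi.single_eq_same]
    ring
  · rw [Pi.single_eq_of_ne hk, Pi.single_eq_of_ne hk, zero_mul, zero_mul]

/-- an automorphism fixing the points and hyperplanes of the standard frame stabilises every
root subgroup of the frame -/
theorem root_fixed (hn : 3 ≤ n) (β : MulAut (PSLn n F))
    (hP : ∀ i : Fin n, mapA β (TP (Pi.single i 1)) = TP (Pi.single i 1))
    (hH : ∀ j : Fin n, mapA β (TH (Pi.single j 1)) = TH (Pi.single j 1))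
    (i j : Fin n) (hij : i ≠ j) (a : F) :
    ∃ b : F, β (prn (Matrix.SpecialLinearGroup.transvection hij a))
      = prn (Matrix.SpecialLinearGroup.transvection hij b) := by
  have hdot : (Pi.single j 1 : Fin n → F) ⬝ᵥ (Pi.single i 1 : Fin n → F) = 0 := by
    rw [single_dotProduct, one_mul, Pi.single_eq_of_ne (Ne.symm hij)]
  have hx : prn (Matrix.SpecialLinearGroup.transvection hij a)
      ∈ TP (Pi.single i 1) ⊓ TH (Pi.single j 1) := by
    constructor
    · rw [transvection_eq_tvS']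
      exact ⟨_, _, rfl⟩
    · rw [transvection_eq_tvS]
      exact ⟨_, _, rfl⟩
  have hy : β (prn (Matrix.SpecialLinearGroup.transvection hij a))
      ∈ TP (Pi.single i 1) ⊓ TH (Pi.single j 1) := by
    constructor
    · rw [← hP i]
      exact apply_mem_mapA β hx.1
    · rw [← hH j]
      exact apply_mem_mapA β hx.2
  obtain ⟨b, hb, he⟩ := mem_TP_inf_TH hn _ _ (single_ne_zero' j) hdot _ hy
  exact ⟨b, by rw [he, transvection_eq_tvS']⟩

theorem prn_transvection_injective {i j : Fin n} (hij : i ≠ j) (a b : F)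
    (h : prn (Matrix.SpecialLinearGroup.transvection hij a)
      = prn (Matrix.SpecialLinearGroup.transvection hij b)) : a = b := by
  obtain ⟨r, -, hr⟩ := (prn_eq_iff _ _).mp h
  rw [Matrix.SpecialLinearGroup.transvection_coe, Matrix.SpecialLinearGroup.transvection_coe]
    at hr
  have e1 : ∀ c : F, (Matrix.single i j c : Mn n F) i i = 0 := by
    intro c
    rw [Matrix.single_apply, if_neg]
    rintro ⟨-, h⟩
    exact hij h.symm
  have e2 : ∀ c : F, (Matrix.single i j c : Mn n F) i j = c := by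
    intro c
    rw [Matrix.single_apply, if_pos ⟨rfl, rfl⟩]
  have h1 := congrFun (congrFun hr i) i
  have h2 := congrFun (congrFun hr i) j
  rw [Matrix.add_apply, Matrix.smul_apply, Matrix.add_apply, Matrix.one_apply_eq, e1, e1,
    add_zero, smul_eq_mul, mul_one] at h1
  rw [Matrix.add_apply, Matrix.smul_apply, Matrix.add_apply, Matrix.one_apply_ne hij, e2, e2,
    zero_add, zero_add, smul_eq_mul, ← h1, one_mul] at h2
  exact h2.symm

/-- the diagonal matrix with non-zero diagonal entries `c` -/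
def diagGL (c : Fin n → F) (hc : ∀ i, c i ≠ 0) : GL (Fin n) F :=
  ⟨Matrix.diagonal c, Matrix.diagonal (fun i => (c i)⁻¹),
    by
      rw [Matrix.diagonal_mul_diagonal, ← Matrix.diagonal_one]
      congr 1
      funext i
      exact mul_inv_cancel₀ (hc i),
    by
      rw [Matrix.diagonal_mul_diagonal, ← Matrix.diagonal_one]
      congr 1
      funext i
      exact inv_mul_cancel₀ (hc i)⟩

theorem diagGL_coe (c : Fin n → F) (hc : ∀ i, c i ≠ 0) :
    ((diagGL c hc : GL (Fin n) F) : Mn n F) = Matrix.diagonal c := rfl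

theorem diagGL_inv_coe (c : Fin n → F) (hc : ∀ i, c i ≠ 0) :
    (((diagGL c hc)⁻¹ : GL (Fin n) F) : Mn n F) = Matrix.diagonal (fun i => (c i)⁻¹) := rfl

theorem conjFun_diagGL_transvection (c : Fin n → F) (hc : ∀ i, c i ≠ 0) {i j : Fin n}
    (hij : i ≠ j) (a : F) :
    conjFun (diagGL c hc) (Matrix.SpecialLinearGroup.transvection hij a)
      = Matrix.SpecialLinearGroup.transvection hij (c i * a * (c j)⁻¹) := by
  apply Subtype.ext
  rw [conjFun_coe, Matrix.SpecialLinearGroup.transvection_coe,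
    Matrix.SpecialLinearGroup.transvection_coe, diagGL_coe, diagGL_inv_coe]
  ext k l
  rw [Matrix.mul_diagonal, Matrix.diagonal_mul, Matrix.add_apply, Matrix.add_apply,
    Matrix.single_apply, Matrix.single_apply, Matrix.one_apply]
  by_cases hkl : k = l
  · subst hkl
    have h1 : ¬ (i = k ∧ j = k) := by
      rintro ⟨rfl, h⟩
      exact hij h.symm
    rw [if_pos rfl, if_neg h1, if_neg h1, add_zero, mul_one, mul_inv_cancel₀ (hc k)]
  · rw [if_neg hkl]
    by_cases h2 : i = k ∧ j = l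
    · obtain ⟨rfl, rfl⟩ := h2
      rw [if_pos ⟨rfl, rfl⟩, if_pos ⟨rfl, rfl⟩]
      ring
    · rw [if_neg h2, if_neg h2]
      ring

theorem mapFun_transvection (σ : RingAut F) {i j : Fin n} (hij : i ≠ j) (a : F) :
    mapFun σ (Matrix.SpecialLinearGroup.transvection hij a)
      = Matrix.SpecialLinearGroup.transvection hij (σ a) := by
  apply Subtype.ext
  ext k l
  rw [mapFun_coe, Matrix.SpecialLinearGroup.transvection_coe,
    Matrix.SpecialLinearGroup.transvection_coe, Matrix.map_apply, Matrix.add_apply,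
    Matrix.add_apply, map_add, Matrix.single_apply, Matrix.single_apply, Matrix.one_apply]
  congr 1
  · split_ifs
    · exact map_one σ
    · exact map_zero σ
  · split_ifs
    · rfl
    · exact map_zero σ

/-- **the frame lemma**: an automorphism of `PSL_n(F)`, `n ≥ 3`, stabilising every root
subgroup of the standard frame is a diagonal automorphism times a field automorphism -/
theorem frame_aut [Finite F] (hn : 3 ≤ n) (β : MulAut (PSLn n F))
    (hβ : ∀ (i j : Fin n) (hij : i ≠ j) (a : F), ∃ b : F,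
      β (prn (Matrix.SpecialLinearGroup.transvection hij a))
        = prn (Matrix.SpecialLinearGroup.transvection hij b)) :
    ∃ (c : Fin n → F) (hc : ∀ i, c i ≠ 0) (σ : RingAut F),
      β = dAutN (diagGL c hc) * fAutN σ := by
  choose τ hτ using hβ
  have τ_add : ∀ (i j : Fin n) (hij : i ≠ j) (a b : F),
      τ i j hij (a + b) = τ i j hij a + τ i j hij b := by
    intro i j hij a b
    apply prn_transvection_injective hij
    rw [← hτ, Matrix.SpecialLinearGroup.transvection_add, map_mul, map_mul, hτ, hτ, ← map_mul,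
      ← Matrix.SpecialLinearGroup.transvection_add]
  have τ_zero : ∀ (i j : Fin n) (hij : i ≠ j), τ i j hij 0 = 0 := by
    intro i j hij
    have h := τ_add i j hij 0 0
    rw [add_zero] at h
    linear_combination -h
  have τ_inj : ∀ (i j : Fin n) (hij : i ≠ j) (a b : F), τ i j hij a = τ i j hij b → a = b := by
    intro i j hij a b h
    apply prn_transvection_injective hij
    apply β.injective
    rw [hτ, hτ, h]
  have τ_comm : ∀ (i k j : Fin n) (hik : i ≠ k) (hkj : k ≠ j) (hij : i ≠ j) (a b : F),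
      τ i j hij (a * b) = τ i k hik a * τ k j hkj b := by
    intro i k j hik hkj hij a b
    apply prn_transvection_injective hij
    rw [← hτ, ← Cfsg.Agent.Helper5.transvection_commutator hik hkj hij a b,
      map_commutatorElement, map_commutatorElement, hτ, hτ, ← map_commutatorElement prn,
      Cfsg.Agent.Helper5.transvection_commutator hik hkj hij]
  have d_ne : ∀ (i j : Fin n) (hij : i ≠ j), τ i j hij 1 ≠ 0 := fun i j hij h =>
    one_ne_zero (τ_inj i j hij 1 0 (by rw [h, τ_zero]))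
  have d_mul : ∀ (i k j : Fin n) (hik : i ≠ k) (hkj : k ≠ j) (hij : i ≠ j),
      τ i j hij 1 = τ i k hik 1 * τ k j hkj 1 := by
    intro i k j hik hkj hij
    have h := τ_comm i k j hik hkj hij 1 1
    rwa [mul_one] at h
  have d_inv : ∀ (i j : Fin n) (hij : i ≠ j), τ i j hij 1 * τ j i hij.symm 1 = 1 := by
    intro i j hij
    obtain ⟨k, hki, hkj⟩ := exists_ne_ne hn i j
    have h1 := d_mul i j k hij (Ne.symm hkj) (Ne.symm hki)
    have h2 := d_mul j i k hij.symm (Ne.symm hki) (Ne.symm hkj)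
    have h3 := d_ne i k (Ne.symm hki)
    have h4 : (τ i j hij 1 * τ j i hij.symm 1 - 1) * τ i k (Ne.symm hki) 1 = 0 := by
      linear_combination -h1 - (τ i j hij 1) * h2
    rcases mul_eq_zero.mp h4 with h5 | h5
    · linear_combination h5
    · exact absurd h5 h3
  obtain ⟨i₁, i₂, h10, h20, h12⟩ := exists_two_ne hn (⟨0, by omega⟩ : Fin n)
  obtain ⟨i₀, hi₀⟩ : ∃ i₀ : Fin n, i₀ = ⟨0, by omega⟩ := ⟨_, rfl⟩
  rw [← hi₀] at h10 h20
  have h01 : i₀ ≠ i₁ := Ne.symm h10
  have h02 : i₀ ≠ i₂ := Ne.symm h20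
  clear hi₀
  obtain ⟨c, hc0, hc1⟩ : ∃ c : Fin n → F, c i₀ = 1 ∧ ∀ (i : Fin n) (h : i ≠ i₀), c i = τ i i₀ h 1 :=
    ⟨fun i => if h : i = i₀ then 1 else τ i i₀ h 1, by simp, fun i h => by simp [h]⟩
  have hc : ∀ i, c i ≠ 0 := by
    intro i
    by_cases h : i = i₀
    · rw [h, hc0]
      exact one_ne_zero
    · rw [hc1 i h]
      exact d_ne i i₀ h
  have hcd : ∀ (i j : Fin n) (hij : i ≠ j), τ i j hij 1 * c j = c i := by
    intro i j hij
    by_cases hj : j = i₀
    · have hi : i ≠ i₀ := fun h => hij (h.trans hj.symm)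
      rw [hc1 i hi]
      subst hj
      rw [hc0, mul_one]
    · by_cases hi : i = i₀
      · rw [hc1 j hj]
        subst hi
        rw [hc0]
        exact d_inv _ _ hij
      · rw [hc1 i hi, hc1 j hj, d_mul i i₀ j hi (Ne.symm hj) hij, mul_assoc,
          d_inv i₀ j (Ne.symm hj), mul_one]
  have G1 : ∀ (i k j : Fin n) (hik : i ≠ k) (hkj : k ≠ j) (hij : i ≠ j) (a : F),
      τ i j hij a = τ i k hik a * τ k j hkj 1 := by
    intro i k j hik hkj hij a
    have h := τ_comm i k j hik hkj hij a 1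
    rwa [mul_one] at h
  have G2 : ∀ (i k j : Fin n) (hik : i ≠ k) (hkj : k ≠ j) (hij : i ≠ j) (b : F),
      τ i j hij b = τ i k hik 1 * τ k j hkj b := by
    intro i k j hik hkj hij b
    have h := τ_comm i k j hik hkj hij 1 b
    rwa [one_mul] at h
  have R1 : ∀ (i j k : Fin n) (hij : i ≠ j) (hik : i ≠ k) (hjk : j ≠ k) (a : F),
      τ i j hij a / τ i j hij 1 = τ i k hik a / τ i k hik 1 := by
    intro i j k hij hik hjk a
    rw [G1 i k j hik (Ne.symm hjk) hij a, d_mul i k j hik (Ne.symm hjk) hij]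
    have h1 := d_ne i k hik
    have h2 := d_ne k j (Ne.symm hjk)
    field_simp
  have R2 : ∀ (i j k : Fin n) (hij : i ≠ j) (hkj : k ≠ j) (hik : i ≠ k) (a : F),
      τ i j hij a / τ i j hij 1 = τ k j hkj a / τ k j hkj 1 := by
    intro i j k hij hkj hik a
    rw [G2 i k j hik hkj hij a, d_mul i k j hik hkj hij]
    have h1 := d_ne i k hik
    have h2 := d_ne k j hkj
    field_simp
  have h0 : ∀ (j : Fin n) (hj : i₀ ≠ j) (a : F),
      τ i₀ j hj a / τ i₀ j hj 1 = τ i₀ i₁ h01 a / τ i₀ i₁ h01 1 := by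
    intro j hj a
    by_cases hj1 : j = i₁
    · subst hj1
      rfl
    · exact R1 i₀ j i₁ hj h01 hj1 a
  have hall : ∀ (i j : Fin n) (hij : i ≠ j) (a : F),
      τ i j hij a / τ i j hij 1 = τ i₀ i₁ h01 a / τ i₀ i₁ h01 1 := by
    intro i j hij a
    by_cases hi : i = i₀
    · subst hi
      exact h0 _ hij a
    · by_cases hj : j = i₀
      · obtain ⟨m, hmi, hmj⟩ := exists_ne_ne hn i j
        rw [R1 i j m hij (Ne.symm hmi) (Ne.symm hmj) a,
          R2 i m j (Ne.symm hmi) (Ne.symm hmj) hij a]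
        subst hj
        exact h0 _ (Ne.symm hmj) a
      · rw [R2 i j i₀ hij (Ne.symm hj) hi a]
        exact h0 j (Ne.symm hj) a
  have σmul : ∀ a b : F, τ i₀ i₁ h01 (a * b) / τ i₀ i₁ h01 1
      = (τ i₀ i₁ h01 a / τ i₀ i₁ h01 1) * (τ i₀ i₁ h01 b / τ i₀ i₁ h01 1) := by
    intro a b
    rw [← hall i₀ i₂ h02 a, ← hall i₂ i₁ (Ne.symm h12) b,
      τ_comm i₀ i₂ i₁ h02 (Ne.symm h12) h01 a b, d_mul i₀ i₂ i₁ h02 (Ne.symm h12) h01]
    have h1 := d_ne i₀ i₂ h02
    have h2 := d_ne i₂ i₁ (Ne.symm h12)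
    field_simp
  let σh : F →+* F :=
    { toFun := fun a => τ i₀ i₁ h01 a / τ i₀ i₁ h01 1
      map_one' := div_self (d_ne i₀ i₁ h01)
      map_mul' := σmul
      map_zero' := by rw [τ_zero, zero_div]
      map_add' := fun a b => by rw [τ_add, add_div] }
  have σinj : Function.Injective σh := by
    intro a b h
    apply τ_inj i₀ i₁ h01
    have h1 : τ i₀ i₁ h01 a / τ i₀ i₁ h01 1 = τ i₀ i₁ h01 b / τ i₀ i₁ h01 1 := h
    exact (div_left_inj' (d_ne i₀ i₁ h01)).mp h1
  let σ : RingAut F := RingEquiv.ofBijective σh ⟨σinj, Finite.injective_iff_surjective.mp σinj⟩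
  have hσ : ∀ a : F, σ a = τ i₀ i₁ h01 a / τ i₀ i₁ h01 1 := fun a => rfl
  refine ⟨c, hc, σ, ?_⟩
  apply aut_ext_transvection (by omega)
  intro i j hij a
  rw [hτ, MulAut.mul_apply, fAutN_prn, mapFun_transvection, dAutN_prn,
    conjFun_diagGL_transvection]
  congr 2
  rw [hσ, ← hall i j hij a, ← hcd i j hij]
  have h1 := d_ne i j hij
  have h2 := hc j
  field_simp

end Frame

end Cfsg.Agent.Helper44.PSLn
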