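import Cfsg.Agent.Helper44.PSLnD
import Cfsg.Agent.Helper44.PSLnF
import Cfsg.Agent.Helper44.PSL2E

set_option autoImplicit false

/-!
Helper library (helper44): **the automorphism group of `PSL_n(F)`**, `F` a finite field:
every automorphism is a product `dAutN g * fAutN σ` (induced by a semilinear map), possibly
followed by the inverse-transpose automorphism (`aut_psln` for `n ≥ 3`, `aut_psln_two` for
`n = 2`, `aut_psln_all` for `n ≥ 2`).
-/

namespace Cfsg.Agent.Helper44.PSLn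

open Matrix

universe u

section Main

variable {n : ℕ} {F : Type u} [Field F] [Fintype F]

theorem pres_of_finite (p f : ℕ) [Fact p.Prime] (hF : Fintype.card F = p ^ f) (hf : 1 ≤ f)
    (hn : 3 ≤ n) (α : MulAut (PSLn n F)) : Pres α := by
  rintro _ ⟨v, φ, h, rfl⟩
  exact pres_all p f hF hf hn α v φ h

/-- a type-preserving automorphism is induced by a semilinear map -/
theorem aut_of_PT (hn : 3 ≤ n) (β : MulAut (PSLn n F)) (hPT : PT β) :
    ∃ (g : GL (Fin n) F) (σ : RingAut F), β = dAutN g * fAutN σ := by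
  obtain ⟨g, hP, hH⟩ := exists_frame hn β hPT
  obtain ⟨c, hc, σ, he⟩ := frame_aut hn ((dAutN g)⁻¹ * β) (root_fixed hn _ hP hH)
  refine ⟨g * diagGL c hc, σ, ?_⟩
  rw [map_mul, mul_assoc, ← he, mul_inv_cancel_left]

/-- **the automorphisms of `PSL_n(F)`, `n ≥ 3`** -/
theorem aut_psln (p f : ℕ) [Fact p.Prime] (hF : Fintype.card F = p ^ f) (hf : 1 ≤ f)
    (hn : 3 ≤ n) (α : MulAut (PSLn n F)) :
    ∃ (g : GL (Fin n) F) (σ : RingAut F),
      α = dAutN g * fAutN σ ∨ α = dAutN g * fAutN σ * iAutN := by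
  rcases pt_or_pt_iAutN hn α (pres_of_finite p f hF hf hn α)
    (pres_of_finite p f hF hf hn α⁻¹) with h | h
  · obtain ⟨g, σ, he⟩ := aut_of_PT hn α h
    exact ⟨g, σ, Or.inl he⟩
  · obtain ⟨g, σ, he⟩ := aut_of_PT hn _ h
    refine ⟨itGL g, σ, Or.inr ?_⟩
    have h1 : α = iAutN * (dAutN g * fAutN σ) := by
      rw [← he, ← mul_assoc, iAutN_mul_self, one_mul]
    rw [h1, ← mul_assoc, iAutN_mul_dAutN, mul_assoc, iAutN_mul_fAutN, ← mul_assoc]

theorem dAut_eq_dAutN (g : GL (Fin 2) F) :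
    Cfsg.Agent.Helper44.dAut g = dAutN g := rfl

theorem fAut_eq_fAutN (σ : RingAut F) :
    Cfsg.Agent.Helper44.fAut σ = (fAutN σ : MulAut (PSLn 2 F)) := rfl

/-- the automorphisms of `PSL_2(F)` -/
theorem aut_psln_two (p f : ℕ) [Fact p.Prime] (hF : Fintype.card F = p ^ f)
    (α : MulAut (PSLn 2 F)) :
    ∃ (g : GL (Fin 2) F) (σ : RingAut F), α = dAutN g * fAutN σ := by
  haveI : CharP F p := Cfsg.Agent.Helper44.charP_of_card p f hF
  obtain ⟨g, σ, h⟩ := Cfsg.Agent.Helper44.aut_eq p α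
  exact ⟨g, σ, h⟩

/-- **the automorphisms of `PSL_n(F)`, `n ≥ 2`** -/
theorem aut_psln_all (p f : ℕ) [Fact p.Prime] (hF : Fintype.card F = p ^ f) (hf : 1 ≤ f)
    (hn : 2 ≤ n) (α : MulAut (PSLn n F)) :
    ∃ (g : GL (Fin n) F) (σ : RingAut F),
      α = dAutN g * fAutN σ ∨ α = dAutN g * fAutN σ * iAutN := by
  rcases Nat.lt_or_ge n 3 with h3 | h3
  · obtain rfl : n = 2 := by omega
    obtain ⟨g, σ, h⟩ := aut_psln_two p f hF α
    exact ⟨g, σ, Or.inl h⟩
  · exact aut_psln p f hF hf h3 α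

end Main

end Cfsg.Agent.Helper44.PSLn
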