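import Mathlib

set_option autoImplicit false

/-!
# Sub-CALL S74T2 (helper65), piece ARITH: choice of blocks.
-/

namespace Cfsg.Agent.Helper44.S74T2

/-- ARITH: choice of blocks (`m = 2 μ`; `μ` even: `e' = min e μ`, then four-blocks, then
hyperbolic planes; `μ` odd: `d` odd, so `h` is odd: one hyperbolic plane first). -/
theorem t2_arith (d m A h e : ℕ) (hsum : 2 * A + h + e = d) (he : Even e) (hme : Even m)
    (hmd : m < d) (hcond : (2 * d) % 4 = 2 ∨ m % 4 = 0) :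
    ∃ a' h' e' : ℕ, a' ≤ A ∧ h' ≤ h ∧ e' ≤ e ∧ Even e' ∧ 4 * a' + 2 * h' + 2 * e' = m := by
  obtain ⟨e0, rfl⟩ := he
  obtain ⟨μ, rfl⟩ := hme
  rcases Nat.even_or_odd μ with ⟨ν, rfl⟩ | ⟨ν, rfl⟩
  · -- `μ = 2 ν`: need `2 a' + h' + e' = 2 ν`, `e' = 2 e1`
    by_cases h1 : ν ≤ e0
    · exact ⟨0, 0, ν + ν, by omega, by omega, by omega, ⟨ν, rfl⟩, by omega⟩
    · by_cases h2 : ν - e0 ≤ A
      · exact ⟨ν - e0, 0, e0 + e0, by omega, by omega, by omega, ⟨e0, rfl⟩, by omega⟩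
      · exact ⟨A, 2 * (ν - e0 - A), e0 + e0, by omega, by omega, by omega, ⟨e0, rfl⟩, by omega⟩
  · -- `μ = 2 ν + 1`: `d` odd, `h ≥ 1`
    have hh : 1 ≤ h := by omega
    by_cases h1 : ν ≤ e0
    · exact ⟨0, 1, ν + ν, by omega, by omega, by omega, ⟨ν, rfl⟩, by omega⟩
    · by_cases h2 : ν - e0 ≤ A
      · exact ⟨ν - e0, 1, e0 + e0, by omega, by omega, by omega, ⟨e0, rfl⟩, by omega⟩
      · exact ⟨A, 1 + 2 * (ν - e0 - A), e0 + e0, by omega, by omega, by omega, ⟨e0, rfl⟩,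
          by omega⟩

end Cfsg.Agent.Helper44.S74T2
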