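import Mathlib

set_option autoImplicit false

/-!
# Sub-CALL S74T2 (helper65), piece SIEGJ: a matrix `T` with `T - Tᵀ` injective, `d` even.
-/

namespace Cfsg.Agent.Helper44.S74T2

section sieg

variable {F : Type*} [Field F]

/-- SIEGJ: for `d` even there is `T` with `T - Tᵀ` injective (`T i j = 1` iff `i` even and
`j = i + 1`: `((T - Tᵀ) *ᵥ b) i = b (i + 1)` for `i` even, `= - b (i - 1)` for `i` odd). -/
theorem t2_siegJ (d : ℕ) (hde : Even d) :
    ∃ T : Matrix (Fin d) (Fin d) F, ∀ b : Fin d → F, (T - T.transpose).mulVec b = 0 → b = 0 := by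
  obtain ⟨e, rfl⟩ := hde
  refine ⟨Matrix.of fun i j => if (i : ℕ) % 2 = 0 ∧ (j : ℕ) = (i : ℕ) + 1 then 1 else 0, ?_⟩
  intro b hb
  funext k
  simp only [Pi.zero_apply]
  rcases Nat.even_or_odd (k : ℕ) with hk | hk
  · -- `k` even: row `k + 1`
    have hk1 : (k : ℕ) + 1 < e + e := by
      have := k.2
      obtain ⟨c, hc⟩ := hk
      omega
    have hrow := congrFun hb ⟨(k : ℕ) + 1, hk1⟩
    simp only [Matrix.mulVec, dotProduct, Matrix.sub_apply, Matrix.transpose_apply,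
      Matrix.of_apply, Pi.zero_apply] at hrow
    rw [Finset.sum_eq_single k] at hrow
    · have hk2 : (k : ℕ) % 2 = 0 := Nat.even_iff.mp hk
      have hc1 : ¬ (((k : ℕ) + 1) % 2 = 0 ∧ (k : ℕ) = (k : ℕ) + 1 + 1) := by omega
      rw [if_neg hc1, if_pos ⟨hk2, rfl⟩] at hrow
      simpa using hrow
    · intro j _ hj
      have hjk : (j : ℕ) ≠ (k : ℕ) := fun h => hj (Fin.ext h)
      have hc1 : ¬ (((k : ℕ) + 1) % 2 = 0 ∧ (j : ℕ) = (k : ℕ) + 1 + 1) := by
        have hk2 : (k : ℕ) % 2 = 0 := Nat.even_iff.mp hk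
        omega
      have hc2 : ¬ ((j : ℕ) % 2 = 0 ∧ (k : ℕ) + 1 = (j : ℕ) + 1) := by omega
      rw [if_neg hc1, if_neg hc2]
      simp
    · intro h
      exact absurd (Finset.mem_univ k) h
  · -- `k` odd: row `k - 1`
    have hk2 : (k : ℕ) % 2 = 1 := Nat.odd_iff.mp hk
    have hk1 : (k : ℕ) - 1 < e + e := by
      have := k.2
      omega
    have hrow := congrFun hb ⟨(k : ℕ) - 1, hk1⟩
    simp only [Matrix.mulVec, dotProduct, Matrix.sub_apply, Matrix.transpose_apply,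
      Matrix.of_apply, Pi.zero_apply] at hrow
    rw [Finset.sum_eq_single k] at hrow
    · have hc1 : ((k : ℕ) - 1) % 2 = 0 ∧ (k : ℕ) = (k : ℕ) - 1 + 1 := by omega
      have hc2 : ¬ ((k : ℕ) % 2 = 0 ∧ (k : ℕ) - 1 = (k : ℕ) + 1) := by omega
      rw [if_pos hc1, if_neg hc2] at hrow
      simpa using hrow
    · intro j _ hj
      have hjk : (j : ℕ) ≠ (k : ℕ) := fun h => hj (Fin.ext h)
      have hc1 : ¬ (((k : ℕ) - 1) % 2 = 0 ∧ (j : ℕ) = (k : ℕ) - 1 + 1) := by omega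
      have hc2 : ¬ ((j : ℕ) % 2 = 0 ∧ (k : ℕ) - 1 = (j : ℕ) + 1) := by omega
      rw [if_neg hc1, if_neg hc2]
      simp
    · intro h
      exact absurd (Finset.mem_univ k) h

end sieg

end Cfsg.Agent.Helper44.S74T2
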